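import Cfsg.Agent.S5395
import Cfsg.Agent.Solv.Fitting

/-! The extraspecial group `2^{1+4}_-`: the five singular vectors `Sg`, the action `Phi : Aut P → Sym(Sg)` with kernel
`Inn P` (`ker_Phi`), onto (`Phi_surj`); `two_fixed`. -/

set_option autoImplicit false
set_option linter.unusedSectionVars false
set_option linter.unusedVariables false

namespace Cfsg.Agent.Low.Min4

open Subgroup Cfsg.Agent.PGrp Module

variable {P : Type*} [Group P] [Finite P] {z : P}

instance instFact2 : Fact (Nat.Prime 2) := ⟨Nat.prime_two⟩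

theorem z2 (a : ZMod 2) : a = 0 ∨ a = 1 := by revert a; decide

/-- `2^{1+4}_-` -/
structure M4 (z : P) : Prop where
  es : IsES 2 z
  cen : center P = zpowers z
  card : Nat.card P = 32
  rk : ∀ A : Subgroup P, IsElementaryAbelian 2 A → Nat.card A ≤ 4

theorem M4.of (hex : IsExtraspecial 2 P) (h32 : Nat.card P = 32)
    (hminus : ∀ A : Subgroup P, IsElementaryAbelian 2 A → Nat.card A ≤ 4) : ∃ z : P, M4 z := by
  obtain ⟨z, h, hZ⟩ := exists_isES hex
  exact ⟨z, h, hZ, h32, hminus⟩

namespace M4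

variable (h : M4 z)

/-- nonzero singular vectors -/
abbrev Sg : Type _ := {v : h.es.V // v ≠ 0 ∧ h.es.pw v = 0}

theorem witt : h.es.quad.WittIndex 1 := by
  refine (h.es.wittIndex_cases h.cen (m := 1) h.card).resolve_left fun hk => ?_
  obtain ⟨A, h1, -, h2⟩ := h.es.exists_elem hk
  have := h.rk A h1
  omega

theorem pw_add (v w : h.es.V) : h.es.pw (v + w) = h.es.pw v + h.es.pw w + h.es.B w v := by
  simpa using h.es.pw_add v w

theorem pw0 : h.es.pw 0 = 0 := by rw [← h.es.mk_one, h.es.pw_eq_zero, one_pow]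

theorem symm (v w : h.es.V) : h.es.B v w = h.es.B w v := by
  rw [← h.es.isAlt.neg_eq, CharTwo.neg_eq]

theorem vv (v : h.es.V) : v + v = 0 := by
  rw [← two_smul (ZMod 2) v, show (2 : ZMod 2) = 0 from rfl, zero_smul]

theorem card_Sg : Nat.card h.Sg = 5 := by
  have h1 := h.es.card_sq_minus h.cen (m := 1) h.card h.witt
  rw [h.es.card_pow_eq_one] at h1
  classical
  let e : {v // h.es.pw v = 0} ≃ Option h.Sg := (Equiv.optionSubtypeNe (⟨0, h.pw0⟩ : {v // h.es.pw v = 0})).symm.trans
    (Equiv.optionCongr ⟨fun x => ⟨x.1.1, fun e => x.2 (Subtype.ext e), x.1.2⟩,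
      fun x => ⟨⟨x.1, x.2.2⟩, fun e => x.2.1 (congrArg Subtype.val e)⟩, fun _ => rfl, fun _ => rfl⟩)
  rw [Nat.card_congr e, Finite.card_option] at h1
  omega

theorem B_Sg {s t : h.Sg} (hst : s ≠ t) : h.es.B s.1 t.1 = 1 := by
  refine (z2 _).resolve_left fun h0 => ?_
  have hli : LinearIndependent (ZMod 2) ![s.1, t.1] := LinearIndependent.pair_iff.2 fun a b e => by
    rcases z2 a with rfl | rfl <;> rcases z2 b with rfl | rfl
    · simp
    · exact absurd (by simpa using e) t.2.1
    · exact absurd (by simpa using e) s.2.1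
    · refine absurd (Subtype.ext ?_) hst
      rw [one_smul, one_smul] at e
      exact add_right_cancel (e.trans (h.vv t.1).symm)
  have hm : ∀ x ∈ Submodule.span (ZMod 2) (Set.range ![s.1, t.1]), ∃ a b : ZMod 2, x = a • s.1 + b • t.1 := fun x hx => by
    rw [Matrix.range_cons_cons_empty, Submodule.mem_span_pair] at hx
    obtain ⟨a, b, rfl⟩ := hx
    exact ⟨a, b, rfl⟩
  have := h.witt.2 (Submodule.span (ZMod 2) (Set.range ![s.1, t.1])) ⟨fun x hx y hy => by
    obtain ⟨a, b, rfl⟩ := hm x hx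
    obtain ⟨c, d, rfl⟩ := hm y hy
    rw [h.es.quad_B]
    simp [h0, h.symm t.1 s.1, h.es.isAlt.self_eq_zero], fun x hx => by
    obtain ⟨a, b, rfl⟩ := hm x hx
    show h.es.pw _ = 0
    rcases z2 a with rfl | rfl <;> rcases z2 b with rfl | rfl <;>
      simp [h.pw0, s.2.2, t.2.2, h.pw_add, h.symm t.1 s.1, h0]⟩
  rw [finrank_span_eq_card hli] at this
  simp at this

theorem span_top : Submodule.span (ZMod 2) (Set.range fun s : h.Sg => s.1) = ⊤ := by
  let e : Fin 5 ≃ h.Sg := (Finite.equivFinOfCardEq h.card_Sg).symm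
  let b : Fin 4 → h.es.V := fun i => (e i.castSucc).1
  have hB : ∀ i j, h.es.B (b i) (b j) = if i = j then 0 else 1 := fun i j => by
    split_ifs with hij
    · rw [hij, h.es.isAlt.self_eq_zero]
    · exact h.B_Sg fun e1 => hij (Fin.castSucc_injective _ (e.injective e1))
  have hli : LinearIndependent (ZMod 2) b := Fintype.linearIndependent_iff.2 fun c hc => by
    have : ∀ j, ∑ i, c i * (if i = j then 0 else 1) = 0 := fun j => by
      have := congrArg (fun v => h.es.B v (b j)) hc
      simpa only [map_sum, map_smul, LinearMap.sum_apply, LinearMap.smul_apply, hB, smul_eq_mul, map_zero,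
        LinearMap.zero_apply] using this
    clear hc
    revert c
    decide
  refine eq_top_iff.2 ((hli.span_eq_top_of_card_eq_finrank' ?_).ge.trans (Submodule.span_mono ?_))
  · rw [h.es.finrank_eq (n := 4) h.card, Fintype.card_fin]
  · rintro _ ⟨i, rfl⟩
    exact ⟨_, rfl⟩

include h in
theorem map_z (φ : MulAut P) : φ z = z := by
  have h1 : φ z ∈ zpowers z := by
    rw [← h.cen, mem_center_iff]
    intro g
    obtain ⟨g, rfl⟩ := φ.surjective g
    rw [← map_mul, ← map_mul, mem_center_iff.1 h.es.cen g]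
  obtain ⟨s, hs⟩ := h.es.exists_ez h1
  rcases z2 s with rfl | rfl
  · rw [h.es.ez_zero, eq_comm, MulEquiv.map_eq_one_iff] at hs
    exact absurd hs h.es.ne_one
  · rw [← hs, h.es.ez_one]

/-- action on `P/Z` -/
noncomputable def act (φ : MulAut P) (v : h.es.V) : h.es.V := h.es.π (φ (h.es.out v))

theorem act_π (φ : MulAut P) (x : P) : h.act φ (h.es.π x) = h.es.π (φ x) := by
  obtain ⟨u, ⟨k, rfl⟩, e⟩ := h.es.exists_out x
  rw [act, e, map_mul, h.es.mk_mul, map_zpow, h.map_z, h.es.mk_eq_zero.2 (zpow_mem_zpowers z k), add_zero]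

theorem act_add (φ : MulAut P) (v w : h.es.V) : h.act φ (v + w) = h.act φ v + h.act φ w := by
  obtain ⟨x, rfl⟩ := h.es.mk_surjective v
  obtain ⟨y, rfl⟩ := h.es.mk_surjective w
  rw [← h.es.mk_mul, act_π, act_π, act_π, map_mul, h.es.mk_mul]

theorem act_B (φ : MulAut P) (v w : h.es.V) : h.es.B (h.act φ v) (h.act φ w) = h.es.B v w := by
  obtain ⟨x, rfl⟩ := h.es.mk_surjective v
  obtain ⟨y, rfl⟩ := h.es.mk_surjective w
  have : h.es.B (h.es.π (φ x)) (h.es.π (φ y)) = 0 ↔ h.es.B (h.es.π x) (h.es.π y) = 0 := by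
    rw [h.es.B_eq_zero, h.es.B_eq_zero]
    exact ⟨fun e => e.of_map φ.injective, fun e => e.map φ⟩
  rw [act_π, act_π]
  generalize h.es.B (h.es.π (φ x)) (h.es.π (φ y)) = a, h.es.B (h.es.π x) (h.es.π y) = b at this
  revert a b; decide

theorem act_mem (φ : MulAut P) (s : h.Sg) : h.act φ s.1 ≠ 0 ∧ h.es.pw (h.act φ s.1) = 0 := by
  obtain ⟨v, h1, h2⟩ := s
  obtain ⟨x, rfl⟩ := h.es.mk_surjective v
  simp only [act_π, Ne, h.es.mk_eq_zero, h.es.pw_eq_zero] at h1 h2 ⊢
  refine ⟨fun ⟨k, e⟩ => h1 ⟨k, φ.injective (by rw [← e, map_zpow, h.map_z])⟩, by rw [← map_pow, h2, map_one]⟩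

theorem act_one (v : h.es.V) : h.act 1 v = v := h.es.mk_out v

theorem act_mul (φ ψ : MulAut P) (v : h.es.V) : h.act (φ * ψ) v = h.act φ (h.act ψ v) := by
  obtain ⟨x, rfl⟩ := h.es.mk_surjective v
  rw [act_π, act_π, act_π, MulAut.mul_apply]

/-- action on the singular vectors -/
noncomputable def Phi : MulAut P →* Equiv.Perm h.Sg where
  toFun φ := ⟨fun s => ⟨h.act φ s.1, h.act_mem φ s⟩, fun s => ⟨h.act φ⁻¹ s.1, h.act_mem _ s⟩,
    fun s => Subtype.ext (by simp only [← act_mul, inv_mul_cancel, act_one]),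
    fun s => Subtype.ext (by simp only [← act_mul, mul_inv_cancel, act_one])⟩
  map_one' := Equiv.ext fun s => Subtype.ext (h.act_one _)
  map_mul' φ ψ := Equiv.ext fun s => Subtype.ext (h.act_mul _ _ _)

theorem Phi_val (φ : MulAut P) (s : h.Sg) : (h.Phi φ s).1 = h.act φ s.1 := rfl

theorem ker_Phi : h.Phi.ker = (MulAut.conj : P →* MulAut P).range := by
  ext φ
  constructor
  · intro hφ
    have h1 : ∀ v, h.act φ v = v := fun v => by
      have hv : v ∈ Submodule.span (ZMod 2) (Set.range fun s : h.Sg => s.1) := h.span_top ▸ trivial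
      induction hv using Submodule.span_induction with
      | mem x hx => obtain ⟨s, rfl⟩ := hx; exact congrArg Subtype.val (DFunLike.congr_fun hφ s)
      | zero => rw [← h.es.mk_one, act_π, map_one]
      | add x y _ _ a b => rw [act_add, a, b]
      | smul c x _ a =>
        rcases z2 c with rfl | rfl
        · rw [zero_smul, ← h.es.mk_one, act_π, map_one]
        · rwa [one_smul]
    obtain ⟨g, hg⟩ := S5395.result (h.es.isExtraspecial h.cen fun hc => by
      have := h.es.card_zpowers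
      rw [← h.cen, center_eq_top_iff.2 hc, card_top, h.card] at this
      omega) φ fun x => by
        rw [h.cen, ← h.es.mk_eq_zero, h.es.mk_mul, h.es.mk_inv, ← h.act_π, h1, add_neg_cancel]
    exact ⟨g, MulEquiv.ext fun x => (hg x).symm⟩
  · rintro ⟨g, rfl⟩
    refine Equiv.ext fun ⟨v, hv⟩ => Subtype.ext ?_
    obtain ⟨x, rfl⟩ := h.es.mk_surjective v
    rw [Phi_val, act_π, MulAut.conj_apply, h.es.mk_mul, h.es.mk_mul, h.es.mk_inv, add_comm (h.es.π g), add_neg_cancel_right]
    rfl

theorem Phi_surj : Function.Surjective h.Phi := by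
  classical
  rw [← MonoidHom.range_eq_top, eq_top_iff, ← Equiv.Perm.closure_isSwap, closure_le]
  rintro _ ⟨s, t, hst, rfl⟩
  have h1 := h.B_Sg hst
  have hu : h.es.pw (s.1 + t.1) = 1 := by rw [h.pw_add, s.2.2, t.2.2, h.symm, h1]; simp
  generalize hw : s.1 + t.1 = u at hu
  let r : h.es.V →ₗ[ZMod 2] h.es.V := LinearMap.id + (h.es.B.flip u).smulRight u
  have hr : ∀ v, r v = v + h.es.B v u • u := fun v => rfl
  have rr : Function.Involutive r := fun v => by
    rw [hr, hr, map_add, map_smul, LinearMap.add_apply, LinearMap.smul_apply, h.es.isAlt.self_eq_zero, smul_zero,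
      add_zero, add_assoc, h.vv, add_zero]
  obtain ⟨φ, -, hφ⟩ := h.es.exists_mulEquiv h.es (LinearEquiv.ofInvolutive r rr) (fun v w => by
    show h.es.B (r v) (r w) = _
    simp only [hr, map_add, map_smul, LinearMap.add_apply, LinearMap.smul_apply, h.es.isAlt.self_eq_zero, smul_eq_mul,
      h.symm u w]
    generalize h.es.B v w = a, h.es.B v u = b, h.es.B w u = c
    revert a b c; decide) fun v => by
    show h.es.pw (r v) = _
    rw [hr]
    rcases z2 (h.es.B v u) with e | e <;> rw [e]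
    · simp
    · rw [one_smul, h.pw_add, hu, h.symm, e, add_assoc, show (1 + 1 : ZMod 2) = 0 from rfl, add_zero]
  refine ⟨φ, Equiv.ext fun x => Subtype.ext ?_⟩
  have : (h.Phi φ x).1 = x.1 + h.es.B x.1 u • u := by
    obtain ⟨y, hy⟩ := h.es.mk_surjective x.1
    rw [Phi_val, ← hy, act_π, hφ]; rfl
  rw [this, ← hw, map_add]
  by_cases a : x = s
  · rw [a, Equiv.swap_apply_left, h.es.isAlt.self_eq_zero, h1, zero_add, one_smul, ← add_assoc, h.vv, zero_add]
  by_cases b : x = t
  · rw [b, Equiv.swap_apply_right, h.es.isAlt.self_eq_zero, h.symm, h1, add_zero, one_smul, add_comm s.1, ← add_assoc,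
      h.vv, zero_add]
  · rw [Equiv.swap_apply_of_ne_of_ne a b, h.B_Sg a, h.B_Sg b, show (1 + 1 : ZMod 2) = 0 from rfl, zero_smul, add_zero]

/-- an involutory automorphism fixing an element of order 4 fixes two singular vectors -/
theorem two_fixed {φ : MulAut P} (h2 : φ * φ = 1) {y : P} (hy : y ^ 2 ≠ 1) (hf : φ y = y) :
    ∃ s t, s ≠ t ∧ h.Phi φ s = s ∧ h.Phi φ t = t := by
  have hv : h.es.pw (h.es.π y) = 1 := (z2 _).resolve_left (mt h.es.pw_eq_zero.1 hy)
  have hfv : h.act φ (h.es.π y) = h.es.π y := by rw [act_π, hf]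
  have : ∃ s : h.Sg, h.es.B s.1 (h.es.π y) = 1 := by
    by_contra hn
    push Not at hn
    have : h.es.B.flip (h.es.π y) = 0 := LinearMap.ext_on_range h.span_top fun s => (z2 _).resolve_right (hn s)
    have hc : y ∈ center P := h.es.mem_center_iff.2 fun w => by rw [h.symm]; exact LinearMap.congr_fun this w
    exact hy (h.es.pow_eq_one (h.cen ▸ hc))
  obtain ⟨s, hs⟩ := this
  let t : h.Sg := ⟨s.1 + h.es.π y, fun e => by
    have : h.es.π y = s.1 := add_left_cancel (e.trans (h.vv s.1).symm)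
    rw [this, s.2.2] at hv
    exact zero_ne_one hv, by rw [h.pw_add, s.2.2, hv, h.symm, hs]; rfl⟩
  have hst : s ≠ t := fun e => by
    have : h.es.π y = 0 := by simpa [t] using congrArg Subtype.val e
    rw [this, h.pw0] at hv
    exact zero_ne_one hv
  have hy' : h.es.π y = s.1 + t.1 := by simp only [t, ← add_assoc, h.vv, zero_add]
  have h3 : h.Phi φ s = s := by
    by_contra a
    by_cases b : h.Phi φ s = t
    · obtain ⟨x, hx⟩ := h.es.mk_surjective s.1
      have e1 : h.es.π (φ x) = t.1 := by rw [← h.act_π, hx, ← b]; rfl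
      obtain ⟨k, hk⟩ : (x * φ x)⁻¹ * y ∈ zpowers z := h.es.mk_eq_mk.1 (by rw [h.es.mk_mul, hx, e1, hy'])
      have e2 : y = x * φ x * z ^ k := by simp only [hk]; group
      have e3 : φ (φ x) = x := by rw [← MulAut.mul_apply, h2]; rfl
      rw [e2, map_mul, map_mul, map_zpow, h.map_z, e3, mul_left_inj] at hf
      have := h.es.B_eq_zero.2 (show Commute x (φ x) from hf.symm)
      rw [hx, e1, h.B_Sg hst] at this
      exact one_ne_zero this
    · have := h.act_B φ s.1 (h.es.π y)
      rw [hfv, hs, ← Phi_val, hy', map_add, h.B_Sg a, h.B_Sg b] at this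
      exact absurd this (by decide)
  refine ⟨s, t, hst, h3, Subtype.ext ?_⟩
  rw [Phi_val]
  simp only [t]
  rw [act_add, hfv, ← Phi_val, h3]

end M4

end Cfsg.Agent.Low.Min4
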