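import Cfsg.Agent.Syl2.Sp

/-! The normal 2-rank `NR S k` of a 2-group; its value for wreath data (`nr_grp`). -/

set_option autoImplicit false

namespace Cfsg.Agent.Low.NRk
open Cfsg Cfsg.Agent.Syl2 Subgroup Equiv

/-- `S` has normal 2-rank `k`. -/
def NR (S : Type*) [Group S] (k : ℕ) : Prop :=
  (∃ E : Subgroup S, E.Normal ∧ IsElementaryAbelian 2 E ∧ 2 ^ k ≤ Nat.card E) ∧
    ∀ E : Subgroup S, E.Normal → IsElementaryAbelian 2 E → Nat.card E ≤ 2 ^ k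

theorem elem_of_sq {S : Type*} [Group S] {E : Subgroup S} (h : ∀ x ∈ E, x ^ 2 = 1) :
    IsElementaryAbelian 2 E :=
  ⟨PGrp.isMulCommutative_of_sq fun x => Subtype.ext (h x x.2), h⟩

theorem NR.of_equiv {S S' : Type*} [Group S] [Group S'] {k : ℕ} (h : NR S k) (e : S ≃* S') :
    NR S' k := by
  obtain ⟨⟨E, h1, h2, h3⟩, h4⟩ := h
  refine ⟨⟨E.map e.toMonoidHom, h1.map _ e.surjective, elem_of_sq ?_, ?_⟩, fun E h1 h2 => ?_⟩
  · rintro _ ⟨x, hx, rfl⟩
    rw [← map_pow, h2.2 x hx, map_one]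
  · rwa [card_map_of_injective e.injective]
  · rw [← card_map_of_injective (f := e.symm.toMonoidHom) e.symm.injective]
    refine h4 _ (h1.map _ e.symm.surjective) (elem_of_sq ?_)
    rintro _ ⟨x, hx, rfl⟩
    rw [← map_pow, h2.2 x hx, map_one]

theorem nr_sylow {G G' : Type*} [Group G] [Group G'] [Finite G'] {k : ℕ} (P : Sylow 2 G)
    (h : NR P k) (e : G ≃* G') (S : Sylow 2 G') : NR S k := by
  haveI : Finite G := Finite.of_equiv _ e.symm.toEquiv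
  exact (h.of_equiv ((P : Subgroup G).equivMapOfInjective e.toMonoidHom e.injective)).of_equiv
    ((P.mapSurjective (f := e.toMonoidHom) e.surjective).equiv S)

theorem nr_of {G : Type*} [Group G] {X : Subgroup G} {k : ℕ} (E₀ : Subgroup G) (h1 : E₀ ≤ X)
    (h2 : ∀ g ∈ X, ∀ x ∈ E₀, g * x * g⁻¹ ∈ E₀) (h3 : ∀ x ∈ E₀, x ^ 2 = 1) (h4 : Nat.card E₀ = 2 ^ k)
    (h : ∀ E ≤ X, (∀ g ∈ X, ∀ x ∈ E, g * x * g⁻¹ ∈ E) → (∀ x ∈ E, x ^ 2 = 1) → Nat.card E ≤ 2 ^ k) :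
    NR X k := by
  refine ⟨⟨E₀.subgroupOf X, ⟨fun x hx g => h2 g g.2 x hx⟩,
    elem_of_sq fun x hx => Subtype.ext (h3 x hx), ?_⟩, fun E hE hE' => ?_⟩
  · rw [Nat.card_congr (subgroupOfEquivOfLe h1).toEquiv, h4]
  · rw [← card_map_of_injective X.subtype_injective]
    refine h _ (map_subtype_le _) ?_ ?_
    · rintro g hg _ ⟨x, hx, rfl⟩
      exact ⟨_, hE.conj_mem x hx ⟨g, hg⟩, rfl⟩
    · rintro _ ⟨x, hx, rfl⟩
      rw [← map_pow, hE'.2 x hx, map_one]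

theorem nr_grp {G D E κ : Type*} [Group G] [Group D] [CommGroup E] [Finite E] [Finite κ]
    (W : WD G D E κ) {A : Subgroup D} {B : Subgroup E} {T : Subgroup (Perm κ)} {z u : D} {r : ℕ}
    (hz : orderOf z = 2) (hzA : z ∈ A) (hzc : ∀ a ∈ A, a * z * a⁻¹ = z) (hu : u ∈ A) (hu2 : u ^ 2 ≠ 1)
    (hA : ∀ x ∈ A, (∀ a ∈ A, (a * x * a⁻¹ * x⁻¹) ^ 2 = 1) → x ^ 2 = 1 → x ∈ zpowers z)
    (hB : ∀ e ∈ B, e ^ 2 = 1) (hr : Nat.card B = 2 ^ r) :
    NR (W.grp A B T) (Nat.card κ + r) := by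
  classical
  have hzz : ∀ x ∈ zpowers z, x ^ 2 = 1 := by
    rintro _ ⟨k, rfl⟩
    rw [← zpow_natCast, ← zpow_mul, mul_comm, zpow_mul, zpow_natCast, ← hz, pow_orderOf_eq_one, one_zpow]
  have hc : Nat.card (W.grp (zpowers z) B ⊥) = 2 ^ (Nat.card κ + r) := by
    rw [W.card_grp, Nat.card_zpowers, hz, hr, card_bot, mul_one, pow_add]
  have ai : ∀ (π : Perm κ) i, π (π⁻¹ i) = i := fun π i => by simp
  have binj : ∀ f e, W.b (f, e) = 1 → f = 1 := fun f e h => (W.inj f e 1 (by simpa using h)).1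
  haveI : Finite (W.grp (zpowers z) B ⊥) := Nat.finite_of_card_ne_zero (by rw [hc]; positivity)
  refine nr_of (W.grp (zpowers z) B ⊥) ?_ ?_ ?_ hc fun N hN hn hsq => hc ▸ card_le_of_le fun x hx => ?_
  · intro x hx
    obtain ⟨f, e, π, hf, he, hπ, rfl⟩ := W.mem_grp.1 hx
    exact W.mem_grp.2 ⟨f, e, π, fun i => zpowers_le.2 hzA (hf i), he, by rw [mem_bot.1 hπ]; exact T.one_mem,
      rfl⟩
  · intro g hg x hx
    obtain ⟨f, e, π, hf, he, hπ, rfl⟩ := W.mem_grp.1 hx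
    obtain ⟨f', e', π', hf', -, -, rfl⟩ := W.mem_grp.1 hg
    rw [mem_bot.1 hπ, W.mul_eq, W.inv_eq, W.mul_eq]
    refine W.mem_grp.2 ⟨_, _, _, fun i => ?_, by simpa using he, by simp, rfl⟩
    obtain ⟨k, hk⟩ := hf (π'⁻¹ i)
    simp only [mul_one, ai, ← hk]
    exact ⟨k, by rw [← conj_zpow, hzc _ (hf' i)]⟩
  · intro x hx
    obtain ⟨f, e, π, hf, he, hπ, rfl⟩ := W.mem_grp.1 hx
    rw [mem_bot.1 hπ, map_one, mul_one, ← map_pow, ← map_one W.b]
    congr 1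
    exact Prod.ext (funext fun i => hzz _ (hf i)) (hB e he)
  · obtain ⟨f, e, π, hf, he, hπ, rfl⟩ := W.mem_grp.1 (hN hx)
    have key : ∀ i, ∀ a ∈ A, ((fun j => (Pi.mulSingle i a : κ → D) j * f j *
        ((Pi.mulSingle i a : κ → D) (π⁻¹ j))⁻¹ * (f j)⁻¹) ^ 2) = 1 := by
      intro i a ha
      have h1 := hsq _ (N.mul_mem (hn _ (W.φ_mem i ha) _ hx) (N.inv_mem hx))
      have e1 : W.φ i a = W.b (Pi.mulSingle i a, 1) * W.s 1 := by rw [map_one, mul_one]; rfl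
      rw [e1, W.mul_eq, W.inv_eq, W.mul_eq, W.inv_eq, W.mul_eq] at h1
      simp only [one_mul, inv_one, mul_one, mul_inv_cancel, map_one, Perm.coe_one, id,
        ai, ← map_pow] at h1
      exact binj _ _ h1
    have hπ1 : π = 1 := by
      by_contra hne
      obtain ⟨i, hi⟩ : ∃ i, π⁻¹ i ≠ i := by
        by_contra hc
        push Not at hc
        exact hne (inv_eq_one.1 (Equiv.ext hc))
      have := congrFun (key i u hu) i
      simp only [Pi.pow_apply, Pi.mulSingle_eq_of_ne hi, Pi.mulSingle_eq_same, inv_one, mul_one,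
        mul_inv_cancel_right, Pi.one_apply] at this
      exact hu2 this
    subst hπ1
    refine W.mem_grp.2 ⟨f, e, 1, fun i => hA _ (hf i) (fun a ha => ?_) ?_, he, one_mem _, rfl⟩
    · have := congrFun (key i a ha) i
      rw [Pi.pow_apply, show (1 : Perm κ)⁻¹ i = i from rfl, Pi.mulSingle_eq_same] at this
      exact this
    · have := hsq _ hx
      rw [map_one, mul_one, ← map_pow] at this
      exact congrFun (binj _ _ this) i

theorem nr_grp_mc {G D E κ : Type*} [Group G] [Group D] [CommGroup E] [Finite E] [Finite κ]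
    (W : WD G D E κ) {A : Subgroup D} {B : Subgroup E} {T : Subgroup (Perm κ)} {a x : A} {n r : ℕ}
    (h : PGrp.MC a x n) (hA : ∀ y : A, y ^ 2 = 1 → (a * y * a⁻¹ * y⁻¹) ^ 2 = 1 → y ∈ zpowers a)
    (hB : ∀ e ∈ B, e ^ 2 = 1) (hr : Nat.card B = 2 ^ r) :
    NR (W.grp A B T) (Nat.card κ + r) := by
  have hu : ∃ u : A, u ^ 2 ≠ 1 := by
    by_contra hc
    push Not at hc
    exact h.not_comm (PGrp.isMulCommutative_of_sq hc)
  obtain ⟨u, hu⟩ := hu
  refine nr_grp W (z := ((a ^ 2 ^ (n - 1) : A) : D)) (u := u) (by rw [orderOf_coe, h.orderOf_z])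
    (a ^ 2 ^ (n - 1)).2 (fun b hb => ?_) u.2 (fun e => hu (Subtype.ext e)) (fun y hy h1 h2 => ?_) hB hr
  · exact mul_inv_eq_iff_eq_mul.2 (congrArg Subtype.val (mem_center_iff.1 h.z_mem_center ⟨b, hb⟩))
  · have h2' : (⟨y, hy⟩ : A) ^ 2 = 1 := Subtype.ext h2
    by_cases h0 : (⟨y, hy⟩ : A) = 1
    · rw [show y = 1 from congrArg Subtype.val h0]; exact one_mem _
    · rw [← h.eq_z_of_sq (hA _ h2' (Subtype.ext (h1 a a.2))) h0 h2']
      exact mem_zpowers y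

/-- Reindexing general linear groups. -/
noncomputable def glEquiv {I : Type} [Fintype I] [DecidableEq I] {n : ℕ} (hn : Fintype.card I = n)
    (F : Type*) [Field F] : GL I F ≃* GL (Fin n) F :=
  Units.mapEquiv (Matrix.reindexAlgEquiv F F (Fintype.equivFinOfCardEq hn)).toMulEquiv

end Cfsg.Agent.Low.NRk
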