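import Cfsg.Agent.Low.Redund
import Mathlib.LinearAlgebra.Vandermonde
import Mathlib.NumberTheory.Multiplicity
import Mathlib.LinearAlgebra.Matrix.GeneralLinearGroup.Card
import Mathlib.RingTheory.RootsOfUnity.PrimitiveRoots

/-! `GL_p(q)` with `p ∥ q - 1`, `p` odd: the Sylow `p`-subgroup `C_p ≀ C_p` (`Q0`) and `not_uniq_GL`: every `p`-element
lies in two Sylow `p`-subgroups. -/

set_option autoImplicit false
set_option linter.unusedSectionVars false
set_option linter.unusedVariables false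

namespace Cfsg.Agent.Low.Redund

open Matrix
open scoped Pointwise

variable {F : Type*} [Field F] {p : ℕ} [hp : Fact p.Prime]

/-- monomial matrix with cyclic shift `k` -/
def mono (k : ZMod p) (t : ZMod p → F) : Matrix (ZMod p) (ZMod p) F := of fun i j => if i = j + k then t j else 0

theorem mono_mul (k l : ZMod p) (t u : ZMod p → F) : mono k t * mono l u = mono (k + l) fun j => t (j + l) * u j := by
  ext i j
  simp only [mono, mul_apply, of_apply]
  rw [Finset.sum_eq_single (j + l)]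
  · simp only [if_true, add_assoc, add_comm l k]
    split_ifs <;> simp
  · intro y _ hy; simp [hy]
  · simp

theorem mono_one : mono (0 : ZMod p) (fun _ => (1 : F)) = 1 := by
  ext i j; simp [mono, one_apply]

theorem mono_inj {k l : ZMod p} {t u : ZMod p → F} (ht : t 0 ≠ 0) (h : mono k t = mono l u) : k = l ∧ t = u := by
  have e := congrFun (congrFun h k) 0
  simp only [mono, of_apply, zero_add, if_true] at e
  have hk : k = l := by
    by_contra hn
    simp [hn, ht] at e
  subst hk
  exact ⟨rfl, funext fun j => by simpa [mono] using congrFun (congrFun h (j + k)) j⟩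

theorem ne0 {a : F} (h : a ^ p = 1) : a ≠ 0 := by
  rintro rfl
  simp [hp.out.ne_zero] at h

variable (F p) in
/-- the wreath product `C_p ≀ C_p` -/
def Q0 : Subgroup (GL (ZMod p) F) where
  carrier := {g | ∃ k t, (∀ i, t i ^ p = 1) ∧ g.1 = mono k t}
  one_mem' := ⟨0, fun _ => 1, fun _ => one_pow _, mono_one.symm⟩
  mul_mem' := by
    rintro g h ⟨k, t, h1, h2⟩ ⟨l, u, h3, h4⟩
    exact ⟨k + l, fun j => t (j + l) * u j, fun i => by rw [mul_pow, h1, h3, one_mul], by rw [Units.val_mul, h2, h4, mono_mul]⟩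
  inv_mem' := by
    rintro g ⟨k, t, h1, h2⟩
    refine ⟨-k, fun j => (t (j + -k))⁻¹, fun i => by rw [inv_pow, h1, inv_one], Units.inv_eq_of_mul_eq_one_right ?_⟩
    rw [h2, mono_mul, add_neg_cancel, ← mono_one]
    congr 1
    exact funext fun j => mul_inv_cancel₀ (ne0 (h1 _))

/-- element of `Q0` -/
def mk0 (k : ZMod p) (t : ZMod p → F) (h : ∀ i, t i ^ p = 1) : GL (ZMod p) F :=
  ⟨mono k t, mono (-k) fun j => (t (j + -k))⁻¹, by
    rw [mono_mul, add_neg_cancel, ← mono_one]
    congr 1
    exact funext fun j => mul_inv_cancel₀ (ne0 (h _)), by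
    rw [mono_mul, neg_add_cancel, ← mono_one]
    congr 1
    exact funext fun j => by simpa using inv_mul_cancel₀ (ne0 (h _))⟩

theorem card_Q0 {ζ : F} (hζ : IsPrimitiveRoot ζ p) : Nat.card (Q0 F p) = p ^ (p + 1) := by
  have h1 : ∀ a : rootsOfUnity p F, ((a : Fˣ) : F) ^ p = 1 := fun a => (mem_rootsOfUnity' p _).1 a.2
  let f : ZMod p × (ZMod p → rootsOfUnity p F) → Q0 F p := fun x =>
    ⟨mk0 x.1 (fun i => ((x.2 i : Fˣ) : F)) fun i => h1 _, _, _, fun i => h1 _, rfl⟩
  have hf : Function.Bijective f := by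
    constructor
    · rintro ⟨k, t⟩ ⟨l, u⟩ h
      obtain ⟨e1, e2⟩ := mono_inj (ne0 (h1 (t 0))) (congrArg (fun g : Q0 F p => g.1.1) h)
      exact Prod.ext e1 (funext fun i => Subtype.ext (Units.ext (congrFun e2 i)))
    · rintro ⟨g, k, t, h2, h3⟩
      exact ⟨(k, fun i => rootsOfUnity.mkOfPowEq (t i) (h2 i)), Subtype.ext (Units.ext h3.symm)⟩
  rw [← Nat.card_eq_of_bijective f hf, Nat.card_prod, Nat.card_fun, hζ.card_rootsOfUnity, Nat.card_zmod, pow_succ']

theorem fact_GL [Fintype F] (h2 : p ≠ 2) (h1 : p ∣ Fintype.card F - 1) (h3 : ¬ p ^ 2 ∣ Fintype.card F - 1) :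
    (Nat.card (GL (Fin p) F)).factorization p = p + 1 := by
  have hq : 1 < Fintype.card F := Fintype.one_lt_card
  have hpq : ¬ p ∣ Fintype.card F := fun h => hp.out.one_lt.ne' (Nat.dvd_one.1 (by
    have := Nat.dvd_sub h h1
    rwa [Nat.sub_sub_self hq.le] at this))
  have v1 : padicValNat p (Fintype.card F - 1) = 1 := by
    have a := (padicValNat_dvd_iff_le (p := p) (n := 1) (show Fintype.card F - 1 ≠ 0 by omega)).1 (by simpa using h1)
    have b := mt (padicValNat_dvd_iff_le (p := p) (n := 2) (show Fintype.card F - 1 ≠ 0 by omega)).2 h3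
    omega
  have key : ∀ i : Fin p, (Fintype.card F ^ p - Fintype.card F ^ (i : ℕ)).factorization p =
      1 + if (i : ℕ) = 0 then 1 else 0 := fun i => by
    have hi := i.2
    have e : Fintype.card F ^ p - Fintype.card F ^ (i : ℕ) =
        Fintype.card F ^ (i : ℕ) * (Fintype.card F ^ (p - i) - 1 ^ (p - i)) := by
      rw [Nat.mul_sub, ← pow_add, one_pow, mul_one, Nat.add_sub_cancel' hi.le]
    have hne : Fintype.card F ^ (p - i) - 1 ^ (p - i) ≠ 0 := by
      have := Nat.one_lt_pow (show p - i ≠ 0 by omega) hq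
      rw [one_pow]; omega
    rw [e, Nat.factorization_mul (by positivity) hne, Finsupp.add_apply,
      Nat.factorization_eq_zero_of_not_dvd fun h => hpq (hp.out.dvd_of_dvd_pow h), zero_add,
      Nat.factorization_def _ hp.out, padicValNat.pow_sub_pow (hp.out.odd_of_ne_two h2) hq h1 hpq (by omega), v1]
    congr 1
    split_ifs with h
    · rw [h, Nat.sub_zero, padicValNat_self]
    · exact padicValNat.eq_zero_of_not_dvd fun h => by
        have := Nat.le_of_dvd (by omega) h
        omega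
  rw [card_GL_field, Nat.factorization_prod fun i _ => by
    have := Nat.pow_lt_pow_right hq i.2
    omega, Finsupp.finset_sum_apply]
  simp only [key, Finset.sum_add_distrib, Finset.sum_const, Finset.card_univ, Fintype.card_fin, smul_eq_mul, mul_one]
  rw [Finset.sum_eq_single ⟨0, hp.out.pos⟩ (fun b _ hb => if_neg fun h => hb (Fin.ext h)) (by simp), if_pos rfl]

theorem two_ne (h2 : p ≠ 2) : (2 : ZMod p) ≠ 0 := fun h =>
  h2 ((Nat.prime_dvd_prime_iff_eq hp.out Nat.prime_two).1 ((ZMod.natCast_eq_zero_iff 2 p).1 (by exact_mod_cast h)))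

theorem col_of_norm (h2 : p ≠ 2) {ζ : F} (hζ : IsPrimitiveRoot ζ p) {s : GL (ZMod p) F}
    (hs : ∀ g ∈ Q0 F p, s * g * s⁻¹ ∈ Q0 F p) (j a b : ZMod p) (ha : s.1 a j ≠ 0) (hb : s.1 b j ≠ 0) : a = b := by
  have z1 : ζ - 1 ≠ 0 := sub_ne_zero.2 (hζ.ne_one hp.out.one_lt)
  have hr : ∀ i, (fun i => if i = j then ζ else 1) i ^ p = 1 := fun i => by
    dsimp only; split_ifs <;> simp [hζ.pow_eq_one]
  obtain ⟨k, t, h3, h4⟩ := hs (mk0 0 _ hr) ⟨_, _, hr, rfl⟩
  have e : ∀ x y, mono k t x y = (if x = y then 1 else 0) + (ζ - 1) * s.1 x j * (s⁻¹).1 j y := fun x y => by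
    have e1 : (mk0 0 _ hr).1 = 1 + (ζ - 1) • Matrix.single j j (1 : F) := by
      ext x y
      simp only [mk0, mono, of_apply, add_zero, Matrix.add_apply, one_apply, Matrix.smul_apply, single_apply]
      by_cases h : x = y
      · subst h
        by_cases h' : x = j
        · simp [h']
        · simp [h', Ne.symm h']
      · have : ¬ (j = x ∧ j = y) := fun ⟨h1, h2⟩ => h (h1.symm.trans h2)
        rw [if_neg h, if_neg h, if_neg this, smul_zero, add_zero]
    rw [← h4, Units.val_mul, Units.val_mul, e1, Matrix.mul_add, Matrix.add_mul, Matrix.mul_one, Units.mul_inv,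
      Matrix.mul_smul, Matrix.smul_mul, Matrix.add_apply, one_apply, Matrix.smul_apply, mul_apply, Finset.sum_eq_single j]
    · simp [mul_assoc]
    · intro m _ hm; simp [hm]
    · simp
  by_cases hk : k = 0
  · subst hk
    have : ∃ y, (s⁻¹).1 j y ≠ 0 := by
      by_contra hn
      push Not at hn
      have := congrFun (congrFun s.inv_mul j) j
      simp only [mul_apply, hn, zero_mul, Finset.sum_const_zero, one_apply_eq] at this
      exact zero_ne_one this
    obtain ⟨y, hy⟩ := this
    have key : ∀ x, s.1 x j ≠ 0 → x = y := fun x hx => by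
      by_contra hn
      have := e x y
      simp only [mono, of_apply, add_zero, hn, if_false, zero_add] at this
      exact mul_ne_zero (mul_ne_zero z1 hx) hy this.symm
    rw [key a ha, key b hb]
  · exfalso
    have d : ∀ x, s.1 x j ≠ 0 ∧ (s⁻¹).1 j x ≠ 0 := fun x => by
      have := e x x
      simp only [mono, of_apply, left_eq_add, hk, if_false, if_true] at this
      constructor <;> intro h <;> simp [h] at this
    have h5 : k + k ≠ 0 := by rw [← two_mul]; exact mul_ne_zero (two_ne h2) hk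
    have := e (k + k) 0
    simp only [mono, of_apply, zero_add, add_eq_left, hk, h5, if_false] at this
    exact mul_ne_zero (mul_ne_zero z1 (d _).1) (d _).2 this.symm

theorem mono_pow (k : ZMod p) {t : ZMod p → F} (h : ∀ i, t i ^ p = 1) (m : ℕ) :
    ∃ τ : ZMod p → F, (∀ i, τ i ^ p = 1) ∧ mono k t ^ m = mono ((m : ZMod p) * k) τ := by
  induction m with
  | zero => exact ⟨fun _ => 1, fun _ => one_pow _, by simp [mono_one]⟩
  | succ m ih =>
    obtain ⟨τ, h1, h2⟩ := ih
    exact ⟨fun j => τ (j + k) * t j, fun i => by rw [mul_pow, h1, h, one_mul], by rw [pow_succ, h2, mono_mul]; push_cast; rw [add_mul, one_mul]⟩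

theorem exists_comm (h2 : p ≠ 2) {ζ : F} (hζ : IsPrimitiveRoot ζ p) {k : ZMod p} (hk : k ≠ 0) {t : ZMod p → F}
    (h : ∀ i, t i ^ p = 1) : ∃ s : GL (ZMod p) F, s.1 * mono k t = mono k t * s.1 ∧
      ∃ a b, a ≠ b ∧ s.1 a 0 ≠ 0 ∧ s.1 b 0 ≠ 0 := by
  set y := mono k t with hy
  obtain ⟨τ, h1, h3⟩ := mono_pow k h p
  rw [ZMod.natCast_self, zero_mul, ← hy] at h3
  have hτ : ∀ j, τ (j + k) = τ j := fun j => by
    have := (Commute.self_pow y p).eq
    rw [h3, hy, mono_mul, mono_mul, add_zero, zero_add] at this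
    have e := congrFun (mono_inj (t := fun j => t (j + 0) * τ j) (mul_ne_zero (ne0 (h _)) (ne0 (h1 _))) this).2 j
    simp only [add_zero] at e
    rw [mul_comm] at e
    exact (mul_right_cancel₀ (ne0 (h j)) e).symm
  have hτ' : ∀ j, τ j = τ 0 := fun j => by
    have : ∀ m : ℕ, τ (m * k) = τ 0 := fun m => by
      induction m with
      | zero => simp
      | succ m ih => push_cast; rw [add_mul, one_mul, hτ, ih]
    rw [← this (j * k⁻¹).val, ZMod.natCast_zmod_val, inv_mul_cancel_right₀ hk]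
  have hyp : y ^ p = τ 0 • (1 : Matrix (ZMod p) (ZMod p) F) := by
    rw [h3]; ext i j; simp only [mono, of_apply, add_zero, Matrix.smul_apply, one_apply, hτ' j]; split_ifs <;> simp
  have hodd := hp.out.odd_of_ne_two h2
  by_cases hc : τ 0 = 1
  · let J := ∑ m ∈ Finset.range p, y ^ m
    have hJ : J * y = J := by
      have := geom_sum_mul y p
      rwa [hyp, hc, one_smul, sub_self, mul_sub, mul_one, sub_eq_zero] at this
    have hJ' : y * J = J := by
      have := mul_geom_sum y p
      rwa [hyp, hc, one_smul, sub_self, sub_mul, one_mul, sub_eq_zero] at this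
    have hJm : ∀ m, J * y ^ m = J := fun m => by
      induction m with
      | zero => simp
      | succ m ih => rw [pow_succ, ← mul_assoc, ih, hJ]
    have hJJ : J * J = (p : F) • J := by
      conv_lhs => rw [show J * J = J * ∑ m ∈ Finset.range p, y ^ m from rfl, Finset.mul_sum]
      simp only [hJm, Finset.sum_const, Finset.card_range, Nat.cast_smul_eq_nsmul]
    have p0 : (p : F) ≠ 0 := (hζ.neZero' (R := F)).out
    have z0 := ne0 hζ.pow_eq_one
    have z1 : ζ - 1 ≠ 0 := sub_ne_zero.2 (hζ.ne_one hp.out.one_lt)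
    have inv : ∀ b b' : F, b + b' + b * b' * p = 0 → (1 + b • J) * (1 + b' • J) = 1 := fun b b' e => by
      rw [mul_add, add_mul, add_mul, mul_one, mul_one, one_mul, Matrix.smul_mul, Matrix.mul_smul, hJJ, smul_smul,
        smul_smul, add_assoc, ← add_smul, ← add_smul, ← add_assoc, e, zero_smul, add_zero]
    have ent : ∀ m, m < p → m ≠ 0 → (1 + ((ζ - 1) / p) • J) ((m : ZMod p) * k) 0 ≠ 0 := fun m hm hm0 => by
      have hne : (m : ZMod p) * k ≠ 0 := mul_ne_zero (fun e => hm0 (Nat.eq_zero_of_dvd_of_lt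
        ((ZMod.natCast_eq_zero_iff m p).1 e) hm)) hk
      rw [Matrix.add_apply, one_apply_ne hne, zero_add, Matrix.smul_apply,
        show J = ∑ m ∈ Finset.range p, y ^ m from rfl, Matrix.sum_apply, Finset.sum_eq_single m]
      · obtain ⟨τ, a, b⟩ := mono_pow k h m
        rw [b]
        simpa [mono, z1, p0] using ne0 (a 0)
      · intro l hl hlm
        obtain ⟨τ, a, b⟩ := mono_pow k h l
        rw [b]
        have : (m : ZMod p) ≠ l := fun e => hlm (Nat.ModEq.eq_of_lt_of_lt ((ZMod.natCast_eq_natCast_iff _ _ _).1 e).symm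
          (Finset.mem_range.1 hl) hm)
        simp [mono, hk, this]
      · simp [hm]
    have h3p : 2 < p := lt_of_le_of_ne hp.out.two_le h2.symm
    refine ⟨⟨1 + ((ζ - 1) / p) • J, 1 + ((ζ⁻¹ - 1) / p) • J, inv _ _ (by field_simp; ring), inv _ _ (by field_simp; ring)⟩,
      ?_, _, _, ?_, ent 1 (by omega) one_ne_zero, ent 2 h3p two_ne_zero⟩
    · simp only [add_mul, mul_add, Matrix.smul_mul, Matrix.mul_smul, hJ, hJ', one_mul, mul_one]
    · intro e
      have := mul_right_cancel₀ hk e
      norm_num at this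
      exact one_ne_zero (show (1 : ZMod p) = 0 by linear_combination -this)
  · have c1 : 1 + τ 0 ≠ 0 := fun e => hc (by
      have e1 : τ 0 = -1 := by linear_combination e
      have := h1 0
      rwa [e1, hodd.neg_one_pow, ← e1] at this)
    have g1 := mul_neg_geom_sum (-y) p
    have g2 := geom_sum_mul_neg (-y) p
    rw [hodd.neg_pow, hyp, sub_neg_eq_add, sub_neg_eq_add] at g1 g2
    have e : (1 + τ 0)⁻¹ • ((1 : Matrix (ZMod p) (ZMod p) F) + τ 0 • 1) = 1 := by
      rw [smul_add, smul_smul, ← add_smul, ← mul_one_add, inv_mul_cancel₀ c1, one_smul]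
    refine ⟨⟨1 + y, (1 + τ 0)⁻¹ • ∑ i ∈ Finset.range p, (-y) ^ i, by rw [Matrix.mul_smul, g1, e],
      by rw [Matrix.smul_mul, g2, e]⟩, by simp only [add_mul, mul_add, one_mul, mul_one], 0, k, hk.symm, ?_, ?_⟩
    · simp [hy, mono, hk.symm]
    · simpa [hy, mono, one_apply_ne hk] using ne0 (h 0)

theorem not_uniq_GL [Fintype F] (h2 : p ≠ 2) (h1 : p ∣ Fintype.card F - 1) (h3 : ¬ p ^ 2 ∣ Fintype.card F - 1) :
    ¬ Uniq p (GL (Fin p) F) := by
  classical
  obtain ⟨ζ', hζ'⟩ := exists_prime_orderOf_dvd_card (G := Fˣ) p (by rwa [Fintype.card_units])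
  have hζ : IsPrimitiveRoot (ζ' : F) p := IsPrimitiveRoot.coe_units_iff.2 (hζ' ▸ IsPrimitiveRoot.orderOf ζ')
  let e : GL (ZMod p) F ≃* GL (Fin p) F :=
    Units.mapEquiv (Matrix.reindexAlgEquiv F F (ZMod.finEquiv p).toEquiv.symm).toMulEquiv
  haveI : Finite (GL (ZMod p) F) := Finite.of_equiv _ e.symm.toEquiv
  rw [← uniq_quot (f := e.toMonoidHom) e.surjective (((MonoidHom.ker_eq_bot_iff _).2 e.injective).le.trans bot_le)]
  let P0 : Sylow p (GL (ZMod p) F) := Sylow.ofCard (Q0 F p) (by
    rw [card_Q0 hζ, Nat.card_congr e.toEquiv, fact_GL h2 h1 h3])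
  let U : GL (ZMod p) F → Prop := fun x => ∀ P P' : Sylow p (GL (ZMod p) F), x ∈ P → x ∈ P' → P = P'
  have hU : ∀ x g, U x → U (g⁻¹ * x * g) := fun x g h P P' a b =>
    MulAction.injective g (h _ _ (mem_smul_syl.2 a) (mem_smul_syl.2 b))
  have hA : ∀ y s, y ∈ Q0 F p → U y → s * y = y * s → ∀ j a b, s.1 a j ≠ 0 → s.1 b j ≠ 0 → a = b :=
    fun y s hy hu hc => col_of_norm h2 hζ fun g hg => by
      have : s • P0 = P0 := hu _ _ (mem_smul_syl.2 (by rwa [mul_assoc, ← hc, inv_mul_cancel_left])) hy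
      show s * g * s⁻¹ ∈ P0
      rw [← this, mem_smul_syl]
      rw [show s⁻¹ * (s * g * s⁻¹) * s = g by group]
      exact hg
  have hB : ∀ (y : GL (ZMod p) F) k t, k ≠ 0 → (∀ i, t i ^ p = 1) → y.1 = mono k t → ¬ U y := fun y k t hk ht hy hu => by
    obtain ⟨s, a1, a, b, a2, a3, a4⟩ := exists_comm h2 hζ hk ht
    exact a2 (hA y s ⟨k, t, ht, hy⟩ hu (Units.ext (by simpa [hy] using a1)) 0 a b a3 a4)
  rintro ⟨x, hx, hu⟩
  obtain ⟨P, hP⟩ := ex_syl hx
  obtain ⟨g, rfl⟩ := MulAction.exists_smul_eq (GL (ZMod p) F) P0 P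
  have hy : g⁻¹ * x * g ∈ Q0 F p := mem_smul_syl.1 hP
  have huy := hU x g hu
  generalize g⁻¹ * x * g = y at hy huy
  obtain ⟨k, t, ht, hyt⟩ := id hy
  by_cases hk : k = 0
  swap
  · exact hB y k t hk ht hyt huy
  subst hk
  by_cases hi : Function.Injective t
  · let V : Matrix (ZMod p) (ZMod p) F := of fun i j => t i ^ j.val
    have hV : V.det ≠ 0 := by
      obtain ⟨n, rfl⟩ : ∃ n, p = n + 1 := ⟨p - 1, by have := hp.out.pos; omega⟩
      exact (det_vandermonde_ne_zero_iff (n := n + 1) (v := t)).2 hi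
    refine hB _ 1 (fun _ => 1) one_ne_zero (fun _ => one_pow _) ?_ (hU y (GeneralLinearGroup.mkOfDetNeZero V hV) huy)
    rw [mul_assoc, Units.val_mul, Units.inv_mul_eq_iff_eq_mul, Units.val_mul, hyt]
    ext i j
    rw [show (GeneralLinearGroup.mkOfDetNeZero V hV).1 = V from rfl]
    simp only [mono, mul_apply, of_apply, add_zero, V]
    rw [Finset.sum_eq_single i, Finset.sum_eq_single (j + 1)]
    · rw [if_pos rfl, if_pos rfl, mul_one, ZMod.val_add, ZMod.val_one, ← pow_eq_pow_mod _ (ht i), pow_succ']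
    all_goals simp +contextual [eq_comm]
  · obtain ⟨i, j, e1, e2⟩ := Function.not_injective_iff.1 hi
    refine e2 (hA y ⟨transvection i j 1, transvection i j (-1), by simp [transvection_mul_transvection_same i j e2],
      by simp [transvection_mul_transvection_same i j e2]⟩ hy huy (Units.ext ?_) j i j ?_ ?_)
    · have : mono 0 t = diagonal t := by ext a b; simp only [mono, of_apply, add_zero, diagonal_apply]; split_ifs with h <;> simp [h]
      simp only [Units.val_mul, hyt, this, transvection, add_mul, mul_add, one_mul, mul_one]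
      congr 1
      ext a b
      simp only [mul_diagonal, diagonal_mul, single_apply]
      split_ifs with h
      · rw [← h.1, ← h.2, e1, mul_comm]
      · simp
    · simp [transvection, one_apply_ne e2]
    · simp [transvection, e2]

end Cfsg.Agent.Low.Redund
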