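import Cfsg.Agent.Classical.PSL2Basic
import Cfsg.Agent.Classical.SL2Norm

/-! Redundant Sylow subgroups: `red_iff` (redundant iff no `p`-element lies in a unique Sylow subgroup), invariance under
central quotients `uniq_quot`, and the case of `SL₂(q)` (`uniq_SL2`). -/

set_option autoImplicit false
set_option linter.unusedSectionVars false
set_option linter.unusedVariables false

namespace Cfsg.Agent.Low.Redund

open Subgroup Cfsg.Agent.Classical
open scoped MatrixGroups Pointwise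

variable {G H : Type*} [Group G] [Group H] [Finite G] [Finite H] {p : ℕ} [hp : Fact p.Prime]

/-- some `p`-element lies in a unique Sylow `p`-subgroup -/
def Uniq (p : ℕ) (G : Type*) [Group G] : Prop :=
  ∃ x : G, (∃ k, orderOf x = p ^ k) ∧ ∀ P P' : Sylow p G, x ∈ P → x ∈ P' → P = P'

theorem pg_zp {x : G} (h : ∃ k, orderOf x = p ^ k) : IsPGroup p (zpowers x) := by
  obtain ⟨k, hk⟩ := h
  exact IsPGroup.of_card (by rw [Nat.card_zpowers, hk])

theorem ex_syl {x : G} (h : ∃ k, orderOf x = p ^ k) : ∃ P : Sylow p G, x ∈ P := by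
  obtain ⟨P, hP⟩ := (pg_zp h).exists_le_sylow
  exact ⟨P, hP (mem_zpowers x)⟩

theorem ord_of_mem {P : Subgroup G} (hP : IsPGroup p P) {x : G} (h : x ∈ P) : ∃ k, orderOf x = p ^ k := by
  obtain ⟨k, hk⟩ := IsPGroup.iff_orderOf.1 hP ⟨x, h⟩
  exact ⟨k, by rw [← hk, Subgroup.orderOf_mk]⟩

theorem mem_smul_syl {P : Sylow p G} {g x : G} : x ∈ g • P ↔ g⁻¹ * x * g ∈ P := by
  rw [← SetLike.mem_coe, Sylow.coe_smul, Set.mem_smul_set_iff_inv_smul_mem]
  simp [← map_inv]

theorem red_iff : (∃ Q : Sylow p G, ∀ x : G, (∃ k : ℕ, orderOf x = p ^ k) → ∃ P : Sylow p G, P ≠ Q ∧ x ∈ P) ↔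
    ¬ Uniq p G := by
  constructor
  · rintro ⟨Q, hQ⟩ ⟨x, hx, hu⟩
    obtain ⟨P0, h0⟩ := ex_syl hx
    obtain ⟨g, hg⟩ := MulAction.exists_smul_eq G Q P0
    obtain ⟨P, h1, h2⟩ := hQ (g⁻¹ * x * g) (by
      obtain ⟨k, hk⟩ := hx
      exact ⟨k, by rw [← hk]; simpa using (MulAut.conj g⁻¹).orderOf_eq x⟩)
    exact h1 (MulAction.injective g ((hu _ _ (mem_smul_syl.2 h2) h0).trans hg.symm))
  · intro h
    refine ⟨Classical.arbitrary _, fun x hx => ?_⟩
    by_contra hn
    push Not at hn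
    exact h ⟨x, hx, fun P P' h1 h2 => by
      rw [by_contra fun e => hn P e h1, show P' = Classical.arbitrary _ from by_contra fun e => hn P' e h2]⟩

theorem mem_of_map {f : G →* H} (hf : f.ker ≤ center G) (P : Sylow p G) {x : G} (hx : ∃ k, orderOf x = p ^ k)
    (h : f x ∈ (P : Subgroup G).map f) : x ∈ P := by
  obtain ⟨y, hy, e⟩ := h
  have hz : y⁻¹ * x ∈ center G := hf (by simp [MonoidHom.mem_ker, e])
  have hc : Commute y⁻¹ x := by
    have := mem_center_iff.1 hz y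
    rw [mul_inv_cancel_left] at this
    rw [Commute, SemiconjBy, eq_mul_inv_iff_mul_eq, ← this]
  obtain ⟨k, hk⟩ := hx
  obtain ⟨l, hl⟩ := ord_of_mem P.isPGroup' (inv_mem hy)
  have ho : ∃ m, orderOf (y⁻¹ * x) = p ^ m := by
    have := hc.orderOf_mul_dvd_mul_orderOf
    rw [hk, hl, ← pow_add] at this
    obtain ⟨m, -, hm⟩ := (Nat.dvd_prime_pow hp.out).1 this
    exact ⟨m, hm⟩
  haveI : (zpowers (y⁻¹ * x)).Normal := ⟨fun n hn g => by
    rw [mem_center_iff.1 (zpowers_le.2 hz hn) g, mul_inv_cancel_right]; exact hn⟩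
  have := (pg_zp ho).le_sylow_of_normal P (mem_zpowers _)
  have h2 := mul_mem hy this
  rwa [mul_inv_cancel_left] at h2

theorem uniq_quot {f : G →* H} (hs : Function.Surjective f) (hf : f.ker ≤ center G) : Uniq p G ↔ Uniq p H := by
  constructor
  · rintro ⟨x, ⟨k, hk⟩, hu⟩
    refine ⟨f x, ?_, fun P P' h1 h2 => ?_⟩
    · obtain ⟨m, -, hm⟩ := (Nat.dvd_prime_pow hp.out).1 (hk ▸ orderOf_map_dvd f x)
      exact ⟨m, hm⟩
    · obtain ⟨P, rfl⟩ := Sylow.mapSurjective_surjective hs p P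
      obtain ⟨P', rfl⟩ := Sylow.mapSurjective_surjective hs p P'
      rw [hu P P' (mem_of_map hf P ⟨k, hk⟩ h1) (mem_of_map hf P' ⟨k, hk⟩ h2)]
  · rintro ⟨x, hx, hu⟩
    obtain ⟨P, hP⟩ := ex_syl hx
    obtain ⟨P, rfl⟩ := Sylow.mapSurjective_surjective hs p P
    obtain ⟨y, hy, rfl⟩ := (show x ∈ (P : Subgroup G).map f from hP)
    refine ⟨y, ord_of_mem P.isPGroup' hy, fun P1 P2 h1 h2 => ?_⟩
    have e := hu (P1.mapSurjective hs) (P2.mapSurjective hs) (mem_map_of_mem f h1) (mem_map_of_mem f h2)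
    refine Sylow.ext (P1.is_maximal' P2.isPGroup' fun z hz => ?_).symm
    exact mem_of_map hf P2 (ord_of_mem P1.isPGroup' hz) (by
      rw [← Sylow.coe_mapSurjective hs, ← e]; exact mem_map_of_mem f hz)

theorem uniq_of_cyclic (P : Sylow p G) (h : IsCyclic P) : Uniq p G := by
  obtain ⟨x, hx⟩ := (Subgroup.isCyclic_iff_exists_zpowers_eq_top _).1 h
  have hxP : x ∈ (P : Subgroup G) := hx ▸ mem_zpowers x
  have : ∀ Q : Sylow p G, x ∈ Q → Q = P := fun Q hQ =>
    Sylow.ext (P.is_maximal' Q.isPGroup' (hx ▸ zpowers_le.2 hQ))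
  exact ⟨x, ord_of_mem P.isPGroup' hxP, fun Q Q' h1 h2 => (this Q h1).trans (this Q' h2).symm⟩

theorem mem_of_norm {x w : G} (hx : ∃ k, orderOf x = p ^ k) (hu : ∀ P P' : Sylow p G, x ∈ P → x ∈ P' → P = P')
    {Q : Sylow p G} (hQ : x ∈ Q) (hw : ∃ k, orderOf w = p ^ k) (hn : w ∈ normalizer (zpowers x : Set G)) : w ∈ Q := by
  obtain ⟨P, hP⟩ := (IsPGroup.to_sup_of_normal_left' (pg_zp hx) (pg_zp hw) (zpowers_le.2 hn)).exists_le_sylow
  exact hu P Q (hP (mem_sup_left (mem_zpowers x))) hQ ▸ hP (mem_sup_right (mem_zpowers w))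

variable {F : Type*} [Field F] [Finite F]

theorem uniq_char [CharP F p] : Uniq p SL(2, F) := by
  have h1 : uSL (1 : F) ≠ 1 := by simp
  have h2 : uSL (1 : F) ^ p = 1 := by simp [uSL_pow]
  refine ⟨uSL 1, ⟨1, by rw [pow_one]; exact orderOf_eq_prime h2 h1⟩, fun P P' a b => ?_⟩
  obtain ⟨y, hy⟩ := (unipAct_SL p).exists_sylow_eq (not_char_dvd_card_P1 F p) P
  obtain ⟨z, hz⟩ := (unipAct_SL p).exists_sylow_eq (not_char_dvd_card_P1 F p) P'
  have a' := ((unipAct_SL p).mem_U.1 (hy ▸ a : uSL (1 : F) ∈ (unipAct_SL p).U y)).2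
  have b' := ((unipAct_SL p).mem_U.1 (hz ▸ b : uSL (1 : F) ∈ (unipAct_SL p).U z)).2
  exact Sylow.ext (by rw [hy, hz, sl_unique_fixed p h1 h2 a' b'])

theorem uniq_torus {x : SL(2, F)} (hd : disc x.1 ≠ 0) (hc : centralizer ({x} : Set SL(2, F)) = zpowers x) {k m : ℕ}
    (hk : orderOf x = 2 ^ k) (hm : Odd m) (hG : Nat.card SL(2, F) = 2 ^ (k + 1) * m) : Uniq 2 SL(2, F) := by
  haveI : Fact (Nat.Prime 2) := ⟨Nat.prime_two⟩
  have hN := sl_card_normalizer hd (mem_zpowers x) hc.ge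
  rw [hc, Nat.card_zpowers, hk] at hN
  have key : ∀ P : Sylow 2 SL(2, F), x ∈ P → (P : Subgroup SL(2, F)) = normalizer (zpowers x : Set SL(2, F)) := by
    intro P hP
    have hcard : Nat.card P = 2 ^ (k + 1) := by
      rw [P.card_eq_multiplicity, hG, Nat.factorization_mul (by positivity) hm.pos.ne']
      simp [Nat.factorization_eq_zero_of_not_dvd hm.not_two_dvd_nat, Nat.prime_two.factorization_self]
    have hle : zpowers x ≤ (P : Subgroup SL(2, F)) := zpowers_le.2 hP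
    have hi : ((zpowers x).subgroupOf P).index = 2 := by
      have := ((zpowers x).subgroupOf (P : Subgroup SL(2, F))).index_mul_card
      rw [Nat.card_congr (subgroupOfEquivOfLe hle).toEquiv, Nat.card_zpowers, hk] at this
      erw [hcard] at this
      rw [pow_succ'] at this
      exact Nat.eq_of_mul_eq_mul_right (by positivity) this
    refine eq_of_le_of_card_ge ((normal_subgroupOf_iff_le_normalizer hle).1 (normal_of_index_eq_two hi)) ?_
    erw [hcard]
    rw [hN, pow_succ']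
  exact ⟨x, ⟨k, hk⟩, fun P P' h1 h2 => Sylow.ext ((key P h1).trans (key P' h2).symm)⟩

theorem not_uniq (h2 : (2 : F) ≠ 0) (h1 : ¬ ∃ k : ℕ, Nat.card F + 1 = 2 ^ k) (h3 : ¬ ∃ k : ℕ, Nat.card F = 2 ^ k + 1) :
    ¬ Uniq 2 SL(2, F) := by
  haveI : Fact (Nat.Prime 2) := ⟨Nat.prime_two⟩
  have key : ∀ (g : SL(2, F)) (Q : Sylow 2 SL(2, F)), disc g.1 ≠ 0 →
      (∀ w, w * g * w⁻¹ = g⁻¹ → w ∈ Q) → False := by
    intro g Q hg hQ
    obtain ⟨w, hw⟩ := sl_exists_inverter hg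
    have hle : centralizer ({g} : Set SL(2, F)) ≤ Q := fun t ht => by
      have e := mem_centralizer_singleton_iff.1 ht
      have h := hQ (w * t) (by rw [mul_assoc w, e, mul_inv_rev, ← hw]; group)
      have := mul_mem (inv_mem (hQ w hw)) h
      rwa [inv_mul_cancel_left] at this
    obtain ⟨k, hk⟩ := IsPGroup.iff_card.1 (Q.isPGroup'.to_le hle)
    by_cases hn : NoEig g.1
    · exact h1 ⟨k, by rw [← hk, sl_card_centralizer_noEig hn]⟩
    · rw [sl_card_centralizer_split hg hn] at hk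
      have := Nat.card_pos (α := F)
      exact h3 ⟨k, by omega⟩
  have o4 : ∀ g w : SL(2, F), disc g.1 ≠ 0 → w * g * w⁻¹ = g⁻¹ → ∃ k, orderOf w = 2 ^ k := fun g w hg hw => by
    have := sl_mul_self_eq_neg_one_of_trace (sl_trace_inverter hg hw)
    have h4 : w ^ 2 ^ 2 = 1 := by
      rw [show 2 ^ 2 = 2 * 2 from rfl, pow_mul, pow_two w, this, neg_one_sq]
    obtain ⟨m, -, hm⟩ := (Nat.dvd_prime_pow Nat.prime_two).1 (orderOf_dvd_of_pow_eq_one h4)
    exact ⟨m, hm⟩
  rintro ⟨x, hx, hu⟩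
  obtain ⟨Q, hQ⟩ := ex_syl hx
  by_cases hs : IsScal x.1
  · obtain ⟨g, hg⟩ := sl_exists_noEig (F := F)
    have hd := hg.disc_ne_zero
    refine key g Q hd fun w hw => mem_of_norm hx hu hQ (o4 g w hd hw) ?_
    have hz := sl_mem_center_iff.2 hs
    haveI : (zpowers x).Normal := ⟨fun n hn g => by
      rw [mem_center_iff.1 (zpowers_le.2 hz hn) g, mul_inv_cancel_right]; exact hn⟩
    rw [normalizer_eq_top]; trivial
  · obtain ⟨k, hk⟩ := id hx
    have hd : disc x.1 ≠ 0 := sl_disc_ne_zero_of_coprime (ringChar F) hs (n := 2 ^ k) (fun h => by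
      have hpr := CharP.char_is_prime F (ringChar F)
      have := (Nat.prime_dvd_prime_iff_eq hpr Nat.prime_two).1 (hpr.dvd_of_dvd_pow h)
      exact h2 (by have e := ringChar.Nat.cast_ringChar (R := F); rw [this] at e; exact_mod_cast e))
      (by rw [← hk, pow_orderOf_eq_one]; exact sl_isScal_iff.2 (Or.inl rfl))
    exact key x Q hd fun w hw => mem_of_norm hx hu hQ (o4 x w hd hw) ((sl_mem_normalizer_iff hd (mem_zpowers x)
      (zpowers_le.2 (sl_self_mem_centralizer x))).2 (Or.inr hw))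

theorem uniq_succ {k : ℕ} (hk : Nat.card F + 1 = 2 ^ (k + 2)) : Uniq 2 SL(2, F) := by
  obtain ⟨t, h1, h2, h3⟩ := sl_exists_orderOf_succ (F := F)
  have hp : 0 < 2 ^ k := by positivity
  refine uniq_torus h2.disc_ne_zero h3 (h1.trans hk) (m := Nat.card F * (2 * 2 ^ k - 1)) ?_ ?_
  · refine Odd.mul ⟨2 * 2 ^ k - 1, ?_⟩ ⟨2 ^ k - 1, by omega⟩
    rw [pow_add] at hk; omega
  · rw [card_SL2]
    obtain ⟨j, hj⟩ : ∃ j, 2 ^ k = j + 1 := ⟨2 ^ k - 1, by omega⟩
    have e : Nat.card F = 4 * j + 3 := by rw [pow_add] at hk; omega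
    rw [pow_add, pow_add, e, hj, show 2 * (j + 1) - 1 = 2 * j + 1 by omega,
      show 4 * j + 3 - 1 = 4 * j + 2 by omega]
    ring

theorem uniq_pred {k : ℕ} (hk : Nat.card F = 2 ^ (k + 2) + 1) : Uniq 2 SL(2, F) := by
  obtain ⟨a, h1, h2, h3⟩ := exists_dSL_generator (F := F)
  have hp : 0 < 2 ^ k := by positivity
  have ho : orderOf (dSL a) = 2 ^ (k + 2) := by rw [h1, hk]; simp
  have hd : disc (dSL a).1 ≠ 0 := (disc_dSL a).2 fun h => by
    have : dSL a ^ 2 = 1 := by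
      rw [show dSL a = dSLHom F a from rfl, ← map_pow, show a ^ 2 = 1 from Units.ext (by simpa using h), map_one]
    have := Nat.le_of_dvd two_pos (orderOf_dvd_of_pow_eq_one this)
    rw [ho, pow_add] at this; omega
  refine uniq_torus hd (eq_of_le_of_card_ge (zpowers_le.2 (sl_self_mem_centralizer _)) ?_).symm ho
    (m := Nat.card F * (2 * 2 ^ k + 1)) ?_ ?_
  · rw [sl_card_centralizer_split hd (not_noEig_dSL a), Nat.card_zpowers, h1]
  · refine Odd.mul ⟨2 * 2 ^ k, ?_⟩ ⟨2 ^ k, by omega⟩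
    rw [pow_add] at hk; omega
  · rw [card_SL2, hk, pow_add, pow_add, pow_add]
    generalize 2 ^ k = j
    rw [Nat.add_sub_cancel]
    ring

theorem uniq_SL2 (F : Type*) [Field F] [Fintype F] (p : ℕ) [hp : Fact p.Prime] : ¬ Uniq p SL(2, F) ↔
    (p = 2 ∧ (¬ ∃ k : ℕ, Fintype.card F + 1 = 2 ^ k) ∧ (¬ ∃ k : ℕ, Fintype.card F = 2 ^ k) ∧
      ¬ ∃ k : ℕ, Fintype.card F = 2 ^ k + 1) := by
  rw [← Nat.card_eq_fintype_card]
  have hpr := CharP.char_is_prime F (ringChar F)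
  haveI := Fact.mk hpr
  have hq : 1 < Nat.card F := Finite.one_lt_card
  obtain ⟨n, -, hn⟩ := FiniteField.card F (ringChar F)
  rw [← Nat.card_eq_fintype_card] at hn
  constructor
  · intro h
    have hc : p ≠ ringChar F := fun e => h (by subst e; exact uniq_char)
    have h2 : p = 2 := by
      by_contra h2
      obtain ⟨P⟩ : Nonempty (Sylow p SL(2, F)) := inferInstance
      exact h (uniq_of_cyclic P (sl_isCyclic_of_isPGroup (ringChar F) h2 hc P.isPGroup'))
    subst h2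
    have ho : Odd (Nat.card F) := hn ▸ (hpr.odd_of_ne_two hc.symm).pow
    obtain ⟨m, hm⟩ := ho
    refine ⟨rfl, ?_, ?_, ?_⟩ <;> rintro ⟨k, hk⟩
    · rcases k with _ | _ | k
      · omega
      · omega
      · exact h (uniq_succ hk)
    · rcases k with _ | k
      · omega
      · rw [pow_succ] at hk; omega
    · rcases k with _ | _ | k
      · omega
      · exact h (uniq_succ (k := 0) (by omega))
      · exact h (uniq_pred hk)
  · rintro ⟨rfl, h1, h2, h3⟩
    refine not_uniq (fun h => h2 ⟨n, ?_⟩) h1 h3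
    rw [hn, CharP.ringChar_of_prime_eq_zero Nat.prime_two (by exact_mod_cast h)]

end Cfsg.Agent.Low.Redund
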