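import Cfsg.Agent.SZ.U3
import Cfsg.Agent.Classical.GUCard
import Cfsg.Agent.Solv.Core

/-! The Sylow 2-subgroup `UM E q` of `SU₃(q)`, `q` even, and its automorphisms: every automorphism
induces a semilinear map `x ↦ c * τ x` on `UM / Z(UM) = E` (`exists_semi`), the kernel of this action
consists of the central automorphisms. -/

set_option autoImplicit false
set_option linter.unusedSectionVars false

namespace Cfsg.Agent.Low.U3A
open Cfsg Cfsg.Agent.Suz _root_.Cfsg.Agent.Classical

/-- The model group. -/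
@[ext] structure UM (E : Type*) [Field E] (q : ℕ) where
  x : E
  y : E
  h : y + y ^ q = x ^ (q + 1)

variable {E : Type*} [Field E] [Fintype E] {q : ℕ} [hF : Fact (Fintype.card E = q ^ 2)] [CharP E 2]

instance instUMGroup : Group (UM E q) where
  mul a b := ⟨a.x + b.x, a.y + b.y + a.x ^ q * b.x, Un.mul a.h b.h⟩
  one := ⟨0, 0, un_zero⟩
  inv a := ⟨a.x, a.y ^ q, by rw [pow_q_q, add_comm]; exact a.h⟩
  mul_assoc a b c := by
    refine UM.ext (add_assoc _ _ _) ?_
    change a.y + b.y + a.x ^ q * b.x + c.y + (a.x + b.x) ^ q * c.x =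
      a.y + (b.y + c.y + b.x ^ q * c.x) + a.x ^ q * (b.x + c.x)
    rw [add_pow_q]; ring
  one_mul a := by
    refine UM.ext (zero_add _) ?_
    change 0 + a.y + 0 ^ q * a.x = a.y
    rw [zero_pow_q]; ring
  mul_one a := by
    refine UM.ext (add_zero _) ?_
    change a.y + 0 + a.x ^ q * 0 = a.y
    ring
  inv_mul_cancel a := by
    refine UM.ext (CharTwo.add_self_eq_zero _) ?_
    change a.y ^ q + a.y + a.x ^ q * a.x = 0
    rw [add_comm (a.y ^ q), a.h, pow_succ, CharTwo.add_self_eq_zero]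

@[simp] theorem mul_x (a b : UM E q) : (a * b).x = a.x + b.x := rfl
@[simp] theorem mul_y (a b : UM E q) : (a * b).y = a.y + b.y + a.x ^ q * b.x := rfl
@[simp] theorem one_x : (1 : UM E q).x = 0 := rfl
@[simp] theorem one_y : (1 : UM E q).y = 0 := rfl
@[simp] theorem inv_x (a : UM E q) : a⁻¹.x = a.x := rfl
@[simp] theorem inv_y (a : UM E q) : a⁻¹.y = a.y ^ q := rfl

theorem card_UM : Nat.card (UM E q) = q ^ 3 := by
  rw [← card_Un (E := E)]
  exact Nat.card_congr ⟨fun a => ⟨(a.x, a.y), a.h⟩, fun p => ⟨p.1.1, p.1.2, p.2⟩, fun _ => rfl, fun _ => rfl⟩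

instance instUMFinite : Finite (UM E q) :=
  Nat.finite_of_card_ne_zero (by rw [card_UM]; exact pow_ne_zero _ (q_ne_zero E))

theorem sylow_equiv {n : ℕ} (hn : 1 ≤ n) [Fact (Fintype.card E = (2 ^ n) ^ 2)]
    (P : Sylow 2 (SU 3 E (2 ^ n))) : Nonempty (P ≃* UM E (2 ^ n)) := by
  have m := uc_model (E := E) (q := 2 ^ n)
  let f : UM E (2 ^ n) →* SU 3 E (2 ^ n) :=
    MonoidHom.mk' (fun a => uU (2 ^ n) a.x a.y) fun a b => (m.mul _ _ _ _ a.h b.h).symm
  have hf : Function.Injective f := fun a b e => by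
    have := m.inj _ _ _ _ a.h b.h (congrArg (fun g => g • uT E (2 ^ n) • uP E (2 ^ n)) e)
    exact UM.ext this.1 this.2
  have hc : Nat.card f.range = 2 ^ (n * 3) := by
    rw [← Nat.card_congr (MonoidHom.ofInjective hf).toEquiv, card_UM, pow_mul]
  have hSU : Nat.card (SU 3 E (2 ^ n)) = 2 ^ (n * 3) * (((2 ^ n) ^ 2 - 1) * ((2 ^ n) ^ 3 + 1)) := by
    have := card_SU_mul (F := E) (q := 2 ^ n) (n := 3) (by norm_num)
    rw [card_GU] at this
    simp only [Finset.prod_range_succ, Finset.range_zero, Finset.prod_empty] at this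
    norm_num at this
    apply Nat.eq_of_mul_eq_mul_left (show 0 < 2 ^ n + 1 by positivity)
    rw [this, pow_mul]; ring
  have hodd : ¬ 2 ∣ f.range.index := by
    have := f.range.card_mul_index
    rw [hc, hSU] at this
    rw [Nat.eq_of_mul_eq_mul_left (by positivity) this, Nat.Prime.dvd_mul Nat.prime_two]
    have h2 : 2 ∣ 2 ^ n := dvd_pow_self 2 (by omega)
    have h3 := h2.trans (dvd_pow_self (2 ^ n) two_ne_zero)
    have h4 := h2.trans (dvd_pow_self (2 ^ n) three_ne_zero)
    have : 0 < (2 ^ n) ^ 2 := by positivity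
    omega
  exact ⟨(P.equiv ((IsPGroup.of_card hc).toSylow hodd)).trans (MonoidHom.ofInjective hf).symm⟩

theorem norm_fix (x : E) : (x ^ (q + 1)) ^ q = x ^ (q + 1) := by
  rw [pow_succ, mul_pow, pow_q_q, mul_comm]

/-- A lift of `x`. -/
noncomputable def lift (q : ℕ) [Fact (Fintype.card E = q ^ 2)] (x : E) : UM E q :=
  ⟨x, (exists_trace_eq (norm_fix (q := q) x)).choose, (exists_trace_eq (norm_fix (q := q) x)).choose_spec⟩

@[simp] theorem lift_x (x : E) : (lift q x).x = x := rfl

/-- Central elements. -/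
def cz (y : E) (hy : y ^ q = y) : UM E q := ⟨0, y, by rw [hy, CharTwo.add_self_eq_zero]; simp⟩

@[simp] theorem cz_x (y : E) (hy : y ^ q = y) : (cz y hy).x = 0 := rfl
@[simp] theorem cz_y (y : E) (hy : y ^ q = y) : (cz y hy).y = y := rfl

theorem fix_of_x {a : UM E q} (h : a.x = 0) : a.y ^ q = a.y := by
  have := a.h
  rw [h, zero_pow (Nat.succ_ne_zero q), CharTwo.add_eq_zero] at this
  exact this.symm

theorem sq_eq (a : UM E q) : a * a = cz (a.x ^ (q + 1)) (norm_fix _) :=
  UM.ext (CharTwo.add_self_eq_zero _) (by simp [CharTwo.add_self_eq_zero, pow_succ])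

theorem sq_eq_one_iff (a : UM E q) : a * a = 1 ↔ a.x = 0 := by
  rw [sq_eq, UM.ext_iff]; simp

theorem comm_of_x {a : UM E q} (h : a.x = 0) (b : UM E q) : a * b = b * a :=
  UM.ext (add_comm _ _) (by simp [h, zero_pow_q, add_comm])

theorem mem_center_iff {a : UM E q} : a ∈ Subgroup.center (UM E q) ↔ a.x = 0 := by
  refine ⟨fun h => ?_, fun h => Subgroup.mem_center_iff.2 fun b => (comm_of_x h b).symm⟩
  by_contra h0
  obtain ⟨w, hw⟩ := exists_pow_q_ne E q
  have := congrArg UM.y (Subgroup.mem_center_iff.1 h (lift q (a.x * w)))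
  simp only [mul_y, lift_x, mul_pow] at this
  apply hw
  apply mul_left_cancel₀ (mul_ne_zero h0 (pow_ne_zero q h0))
  linear_combination this

theorem x_zero (α : MulAut (UM E q)) {a : UM E q} (h : a.x = 0) : (α a).x = 0 := by
  rw [← sq_eq_one_iff, ← map_mul, (sq_eq_one_iff a).2 h, map_one]

theorem x_congr (α : MulAut (UM E q)) {a b : UM E q} (h : a.x = b.x) : (α a).x = (α b).x := by
  have := x_zero α (a := a * b⁻¹) (by simp [h, CharTwo.add_self_eq_zero])
  rw [map_mul, map_inv, mul_x, inv_x, CharTwo.add_eq_zero] at this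
  exact this

/-- The induced additive map on `UM / Z`. -/
noncomputable def gx (α : MulAut (UM E q)) : E →+ E :=
  AddMonoidHom.mk' (fun x => (α (lift q x)).x) fun a b => by
    rw [← mul_x, ← map_mul]; exact x_congr α rfl

theorem gx_x (α : MulAut (UM E q)) (a : UM E q) : gx α a.x = (α a).x := x_congr α rfl

/-- The action on `UM / Z`. -/
noncomputable def Phi : MulAut (UM E q) →* Equiv.Perm E :=
  MonoidHom.toHomPerm
    { toFun := fun α => (fun x => gx α x : Function.End E)
      map_one' := rfl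
      map_mul' := fun α β => by
        funext x
        change (α (β (lift q x))).x = gx α (gx β x)
        rw [← gx_x]; rfl }

theorem Phi_apply (α : MulAut (UM E q)) (x : E) : Phi α x = gx α x := rfl

theorem gx_inj (α : MulAut (UM E q)) : Function.Injective (gx α) := (Phi α).injective

theorem cz_norm (α : MulAut (UM E q)) (x : E) :
    α (cz (x ^ (q + 1)) (norm_fix _)) = cz (gx α x ^ (q + 1)) (norm_fix _) := by
  have := congrArg α (sq_eq (lift q x))
  rw [map_mul, sq_eq] at this
  exact this.symm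

/-- Additive maps compatible with the norm are semilinear. -/
theorem semi_of (g : E →+ E) (hg : Function.Injective g) (h1 : g 1 = 1) (a : E → E)
    (ha : ∀ y z, y ^ q = y → z ^ q = z → a (y + z) = a y + a z)
    (hN : ∀ x, g x ^ (q + 1) = a (x ^ (q + 1))) (x y : E) : g (x * y) = g x * g y := by
  have a0 : a 0 = 0 := by simpa [zero_pow_q] using ha 0 0 zero_pow_q zero_pow_q
  have hB : ∀ x y, g x ^ q * g y + g y ^ q * g x = a (x ^ q * y + y ^ q * x) := by
    intro x y
    have e := hN (x + y)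
    have f : (x ^ q * y + y ^ q * x) ^ q = x ^ q * y + y ^ q * x := by
      rw [add_pow_q, mul_pow, mul_pow, pow_q_q, pow_q_q]; ring
    rw [show (x + y) ^ (q + 1) = x ^ (q + 1) + y ^ (q + 1) + (x ^ q * y + y ^ q * x) by
      rw [pow_succ, add_pow_q]; ring, ha _ _ (by rw [add_pow_q, norm_fix, norm_fix]) f,
      ha _ _ (norm_fix _) (norm_fix _), ← hN, ← hN, map_add, pow_succ, add_pow_q] at e
    linear_combination e
  have g0 : ∀ x, x ≠ 0 → g x ≠ 0 := fun x hx h => hx (hg (h.trans (map_zero g).symm))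
  have ainj : ∀ z, z ^ q = z → a z = 0 → z = 0 := by
    intro z hz h
    obtain ⟨w, rfl⟩ := exists_norm_eq hz
    rw [mul_comm, ← pow_succ, ← hN, pow_eq_zero_iff (Nat.succ_ne_zero q)] at h
    by_contra hw
    exact g0 w (fun e => hw (by simp [e])) h
  have line : ∀ l x, l ^ q = l → x ≠ 0 → (g (l * x) / g x) ^ q = g (l * x) / g x := by
    intro l x hl hx
    have := hB x (l * x)
    rw [mul_pow, hl, show x ^ q * (l * x) + l * x ^ q * x = 0 by
      rw [CharTwo.add_eq_zero]; ring, a0, CharTwo.add_eq_zero] at this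
    have h0 := g0 x hx
    have := pow_ne_zero q h0
    rw [div_pow]; field_simp; linear_combination -‹g x ^ q * _ = _›
  have ind : ∀ l x y, l ^ q = l → x ^ q * y + y ^ q * x ≠ 0 →
      g (l * x) / g x = g (l * y) / g y := by
    intro l x y hl hxy
    have hx : x ≠ 0 := by rintro rfl; simp [zero_pow_q] at hxy
    have hy : y ≠ 0 := by rintro rfl; simp [zero_pow_q] at hxy
    have hs : x + y ≠ 0 := by
      rw [Ne, CharTwo.add_eq_zero]; rintro rfl; simp [CharTwo.add_self_eq_zero] at hxy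
    have hb : g x ^ q * g y + g y ^ q * g x ≠ 0 := by
      rw [hB]
      exact fun h => hxy (ainj _ (by rw [add_pow_q, mul_pow, mul_pow, pow_q_q, pow_q_q]; ring) h)
    have l1 := line l x hl hx
    have l2 := line l y hl hy
    have l3 := line l (x + y) hl hs
    have e1 := div_mul_cancel₀ (g (l * x)) (g0 x hx)
    have e2 := div_mul_cancel₀ (g (l * y)) (g0 y hy)
    have e3 := div_mul_cancel₀ (g (l * (x + y))) (g0 _ hs)
    generalize g (l * x) / g x = s at *
    generalize g (l * y) / g y = t at *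
    generalize g (l * (x + y)) / g (x + y) = u at *
    rw [mul_add, map_add, map_add, ← e1, ← e2] at e3
    have e4 := congrArg (· ^ q) e3
    simp only [mul_pow, add_pow_q, l1, l2, l3] at e4
    have two := CharTwo.two_eq_zero (R := E)
    have k1 : u = s := by
      apply mul_right_cancel₀ hb
      linear_combination g y ^ q * e3 + g y * e4 + (t - u) * g y * g y ^ q * two
    have k2 : u = t := by
      apply mul_right_cancel₀ hb
      linear_combination g x ^ q * e3 + g x * e4 + (s - u) * g x * g x ^ q * two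
    rw [← k1, k2]
  obtain ⟨w, hw⟩ := exists_pow_q_ne E q
  have hw' : w + w ^ q ≠ 0 := fun h => hw (CharTwo.add_eq_zero.1 h).symm
  have sc : ∀ l x, l ^ q = l → g (l * x) = g l * g x := by
    intro l x hl
    by_cases hx : x = 0
    · simp [hx]
    have key : g (l * x) / g x = g (l * 1) / g 1 := by
      by_cases h : x ^ q * 1 + 1 ^ q * x = 0
      · rw [mul_one, one_pow, one_mul, CharTwo.add_eq_zero] at h
        rw [ind l x w hl (by rw [h, mul_comm (w ^ q), ← mul_add]; exact mul_ne_zero hx hw')]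
        exact (ind l 1 w hl (by simpa using hw')).symm
      · exact ind l x 1 hl h
    rw [mul_one, h1, div_one, div_eq_iff (g0 x hx)] at key
    exact key
  have gfix : ∀ l, l ^ q = l → g l ^ q = g l := fun l hl => by
    simpa [h1] using line l 1 hl one_ne_zero
  have ag : ∀ z, z ^ q = z → a z = g z := by
    intro z hz
    obtain ⟨l, rfl⟩ : ∃ l, l ^ 2 = z := (frobeniusEquiv E 2).surjective z
    have hl : l ^ q = l := (frobeniusEquiv E 2).injective (by
      change (l ^ q) ^ 2 = l ^ 2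
      rw [← pow_mul, mul_comm, pow_mul, hz])
    have := hN l
    rw [pow_succ, pow_succ, hl, gfix l hl] at this
    rw [sq, ← this, sc l l hl]
  have sqw : g (w * w) = g w * g w := by
    have t1 := hB 1 w
    have t2 := hN w
    have f : (w + w ^ q) ^ q = w + w ^ q := by rw [add_pow_q, pow_q_q, add_comm]
    simp only [h1, one_pow, one_mul, mul_one] at t1
    rw [ag _ f] at t1
    rw [ag _ (norm_fix _)] at t2
    have two := CharTwo.two_eq_zero (R := E)
    rw [show w * w = (w + w ^ q) * w + w ^ (q + 1) by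
      rw [pow_succ]; linear_combination -(w ^ q * w) * two, map_add, sc _ _ f, ← t1, ← t2, pow_succ]
    linear_combination (g w ^ q * g w) * two
  have dec : ∀ x : E, ∃ s t : E, s ^ q = s ∧ t ^ q = t ∧ x = s + t * w := by
    intro x
    have two := CharTwo.two_eq_zero (R := E)
    have f : ((x + x ^ q) / (w + w ^ q)) ^ q = (x + x ^ q) / (w + w ^ q) := by
      rw [div_pow, add_pow_q, add_pow_q, pow_q_q, pow_q_q, add_comm (x ^ q), add_comm (w ^ q)]
    refine ⟨x + (x + x ^ q) / (w + w ^ q) * w, _, ?_, f, ?_⟩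
    · rw [add_pow_q, mul_pow, f]
      field_simp
      linear_combination (x ^ q * w ^ q - x * w) * two
    · linear_combination -((x + x ^ q) / (w + w ^ q) * w) * two
  obtain ⟨s, t, hs, ht, rfl⟩ := dec x
  obtain ⟨s', t', hs', ht', rfl⟩ := dec y
  rw [show (s + t * w) * (s' + t' * w) = s * s' + s * (t' * w) + t * (s' * w) + t * (t' * (w * w)) by
    ring]
  simp only [map_add, sc _ _ hs, sc _ _ ht, sc _ _ hs', sc _ _ ht', sqw]
  ring

/-- The torus. -/
def tor (c : Eˣ) : MulAut (UM E q) where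
  toFun a := ⟨c * a.x, (c : E) ^ (q + 1) * a.y, by rw [mul_pow, norm_fix, mul_pow, ← a.h]; ring⟩
  invFun a := ⟨(c⁻¹ : Eˣ) * a.x, ((c⁻¹ : Eˣ) : E) ^ (q + 1) * a.y, by
    rw [mul_pow, norm_fix, mul_pow, ← a.h]; ring⟩
  left_inv a := UM.ext (by simp) (by simp [← mul_assoc, ← mul_pow])
  right_inv a := UM.ext (by simp) (by simp [← mul_assoc, ← mul_pow])
  map_mul' a b := UM.ext (mul_add _ _ _) (by simp only [mul_y, mul_pow, pow_succ]; ring)

/-- Field automorphisms. -/
def fld (τ : E ≃+* E) : MulAut (UM E q) where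
  toFun a := ⟨τ a.x, τ a.y, by rw [← map_pow, ← map_pow, ← map_add, a.h]⟩
  invFun a := ⟨τ.symm a.x, τ.symm a.y, by rw [← map_pow, ← map_pow, ← map_add, a.h]⟩
  left_inv a := UM.ext (by simp) (by simp)
  right_inv a := UM.ext (by simp) (by simp)
  map_mul' a b := UM.ext (map_add _ _ _) (by simp)

theorem gx_tor (c : Eˣ) (x : E) : gx (tor (q := q) c) x = c * x := rfl
theorem gx_fld (τ : E ≃+* E) (x : E) : gx (fld (q := q) τ) x = τ x := rfl
theorem gx_mul (α β : MulAut (UM E q)) (x : E) : gx (α * β) x = gx α (gx β x) := by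
  rw [← Phi_apply, map_mul]; rfl

theorem exists_semi (α : MulAut (UM E q)) : ∃ (c : Eˣ) (τ : E ≃+* E), ∀ x, gx α x = c * τ x := by
  classical
  have h0 : gx α 1 ≠ 0 := fun h => one_ne_zero (gx_inj α (h.trans (map_zero _).symm))
  set β := tor (Units.mk0 _ h0)⁻¹ * α with hβ
  have h1 : gx β 1 = 1 := by rw [hβ, gx_mul, gx_tor]; simp [h0]
  have hm := semi_of (q := q) (gx β) (gx_inj β) h1 (fun z => if hz : z ^ q = z then (β (cz z hz)).y else 0)
    (fun y z hy hz => by
      have hyz : (y + z) ^ q = y + z := by rw [add_pow_q, hy, hz]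
      rw [dif_pos hy, dif_pos hz, dif_pos hyz]
      have : cz (y + z) hyz = cz y hy * cz z hz := UM.ext (by simp) (by simp)
      rw [this, map_mul, mul_y, x_zero β (cz_x z hz)]; simp)
    (fun x => by rw [dif_pos (norm_fix x), cz_norm]; rfl)
  let τ : E →+* E := { gx β with map_one' := h1, map_mul' := hm }
  refine ⟨Units.mk0 _ h0, RingEquiv.ofBijective τ (Phi β).bijective, fun x => ?_⟩
  change _ = gx α 1 * gx β x
  rw [hβ, gx_mul, gx_tor]; simp [h0]

theorem fix_center {α : MulAut (UM E q)} (h : ∀ x, gx α x ^ (q + 1) = x ^ (q + 1)) {a : UM E q}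
    (ha : a.x = 0) : α a = a := by
  obtain ⟨w, hw⟩ := exists_norm_eq (fix_of_x ha)
  have : a = cz (w ^ (q + 1)) (norm_fix _) := UM.ext ha (by rw [← hw, cz_y, pow_succ, mul_comm])
  rw [this, cz_norm]
  exact UM.ext rfl (h w)

theorem mem_ker_Phi {α : MulAut (UM E q)} : α ∈ (Phi (E := E) (q := q)).ker ↔ ∀ x, gx α x = x :=
  Equiv.ext_iff

theorem ker_fix {α : MulAut (UM E q)} (h : α ∈ (Phi (E := E) (q := q)).ker) {a : UM E q}
    (ha : a.x = 0) : α a = a :=
  fix_center (fun x => by rw [mem_ker_Phi.1 h]) ha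

theorem ker_x {α : MulAut (UM E q)} (h : α ∈ (Phi (E := E) (q := q)).ker) (a : UM E q) :
    (α a * a⁻¹).x = 0 := by
  rw [mul_x, inv_x, ← gx_x, mem_ker_Phi.1 h, CharTwo.add_self_eq_zero]

theorem ker_elem : IsElementaryAbelian 2 (Phi (E := E) (q := q)).ker := by
  have key : ∀ α ∈ (Phi (E := E) (q := q)).ker, ∀ β ∈ (Phi (E := E) (q := q)).ker, ∀ a,
      α (β a) = (β a * a⁻¹) * (α a * a⁻¹) * a := by
    intro α hα β hβ a
    conv_lhs => rw [← inv_mul_cancel_right (β a) a, map_mul, ker_fix hα (ker_x hβ a)]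
    group
  refine ⟨⟨⟨fun α β => Subtype.ext (MulEquiv.ext fun a => ?_)⟩⟩, fun α hα => MulEquiv.ext fun a => ?_⟩
  · change α.1 (β.1 a) = β.1 (α.1 a)
    rw [key _ α.2 _ β.2, key _ β.2 _ α.2, comm_of_x (ker_x β.2 a)]
  · change (α ^ 2) a = a
    rw [sq, MulAut.mul_apply, key _ hα _ hα, (sq_eq_one_iff _).2 (ker_x hα a), one_mul]

/-- The fixed field as an additive subgroup. -/
def KK (E : Type*) [Field E] [Fintype E] (q : ℕ) [Fact (Fintype.card E = q ^ 2)] : AddSubgroup E where
  carrier := {z | z ^ q = z}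
  add_mem' {a b} ha hb := by
    change (a + b) ^ q = a + b
    rw [add_pow_q, ha, hb]
  zero_mem' := zero_pow_q
  neg_mem' {a} ha := by
    change (-a) ^ q = -a
    rw [neg_pow_q, ha]

theorem KK_fix (z : KK E q) : (z : E) ^ q = z := z.2

/-- Central automorphisms. -/
def cen (f : E →+ KK E q) : MulAut (UM E q) where
  toFun a := cz (f a.x : E) (KK_fix (f a.x)) * a
  invFun a := cz (f a.x : E) (KK_fix (f a.x)) * a
  left_inv a := UM.ext (by simp) (by simp [zero_pow_q, ← add_assoc, CharTwo.add_self_eq_zero])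
  right_inv a := UM.ext (by simp) (by simp [zero_pow_q, ← add_assoc, CharTwo.add_self_eq_zero])
  map_mul' a b := UM.ext (by simp) (by simp [zero_pow_q]; ring)

theorem card_ker : Nat.card (Phi (E := E) (q := q)).ker = Nat.card (E →+ KK E q) := by
  refine (Nat.card_eq_of_bijective (fun f : E →+ KK E q => (⟨cen f, mem_ker_Phi.2 fun x => zero_add x⟩ :
    (Phi (E := E) (q := q)).ker)) ⟨fun f g h => ?_, fun ⟨α, hα⟩ => ?_⟩).symm
  · ext x
    have := congrArg (fun α : (Phi (E := E) (q := q)).ker => (α.1 (lift q x)).y) h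
    simpa [cen] using this
  · have key : ∀ a b : UM E q, a.x = b.x → α a * a⁻¹ = α b * b⁻¹ := by
      intro a b h
      have hz : (b⁻¹ * a).x = 0 := by simp [h, CharTwo.add_self_eq_zero]
      have := ker_fix hα hz
      rw [map_mul, map_inv, inv_mul_eq_iff_eq_mul] at this
      rw [this]; group
    refine ⟨AddMonoidHom.mk' (fun x => ⟨(α (lift q x) * (lift q x)⁻¹).y, fix_of_x (ker_x hα _)⟩)
      fun x y => Subtype.ext ?_, Subtype.ext (MulEquiv.ext fun a => ?_)⟩
    · change (α (lift q (x + y)) * (lift q (x + y))⁻¹).y =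
        (α (lift q x) * (lift q x)⁻¹).y + (α (lift q y) * (lift q y)⁻¹).y
      have e : α (lift q x * lift q y) * (lift q x * lift q y)⁻¹ =
          (α (lift q y) * (lift q y)⁻¹) * (α (lift q x) * (lift q x)⁻¹) := by
        rw [← mul_assoc, comm_of_x (ker_x hα (lift q y)), map_mul]; group
      rw [key (lift q (x + y)) (lift q x * lift q y) rfl, e, mul_y, ker_x hα, ker_x hα]; ring
    · change cz _ _ * a = α a
      rw [← eq_mul_inv_iff_mul_eq, key a (lift q a.x) rfl]
      exact UM.ext (ker_x hα _).symm rfl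

theorem card_range : Nat.card (Phi (E := E) (q := q)).range = Nat.card Eˣ * Nat.card (E ≃+* E) := by
  rw [← Nat.card_prod]
  refine (Nat.card_eq_of_bijective (fun p : Eˣ × (E ≃+* E) => (⟨Phi (tor p.1 * fld p.2), _, rfl⟩ :
    (Phi (E := E) (q := q)).range)) ⟨fun p p' h => ?_, ?_⟩).symm
  · have key : ∀ x, (p.1 : E) * p.2 x = p'.1 * p'.2 x := fun x =>
      congrArg (fun α : (Phi (E := E) (q := q)).range => α.1 x) h
    have h1 : p.1 = p'.1 := Units.ext (by simpa using key 1)
    refine Prod.ext h1 (RingEquiv.ext fun x => ?_)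
    have := key x
    rw [h1] at this
    exact mul_left_cancel₀ p'.1.ne_zero this
  · rintro ⟨_, α, rfl⟩
    obtain ⟨c, τ, h⟩ := exists_semi α
    exact ⟨(c, τ), Subtype.ext (Equiv.ext fun x => (h x).symm)⟩

theorem pCore_eq : pCore 2 (MulAut (UM E q)) = (Phi (E := E) (q := q)).ker := by
  have hk : IsPGroup 2 (Phi (E := E) (q := q)).ker := fun α =>
    ⟨1, Subtype.ext (by simpa using ker_elem.2 α.1 α.2)⟩
  refine le_antisymm (fun α hα => ?_) (Solv.le_pCore hk)
  set O := pCore 2 (MulAut (UM E q))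
  letI : MulAction O E := MulAction.compHom _ ((Phi (E := E) (q := q)).comp O.subtype)
  obtain ⟨b, hb, hb0⟩ := (Solv.isPGroup_pCore 2 (MulAut (UM E q))).exists_fixed_point_of_prime_dvd_card_of_fixed_point
    E (by
      obtain ⟨k, -, hk⟩ := FiniteField.card E 2
      rw [Nat.card_eq_fintype_card, hk]
      exact dvd_pow_self 2 k.ne_zero) (a := 0) (fun g => map_zero (gx g.1))
  rw [mem_ker_Phi]
  intro x
  by_cases hx : x = 0
  · simp [hx]
  let c : Eˣ := Units.mk0 (x / b) (div_ne_zero hx hb0.symm)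
  have hc : (c : E) * b = x := div_mul_cancel₀ _ hb0.symm
  have hm : (tor c)⁻¹ * α * (tor c)⁻¹⁻¹ ∈ O := (Solv.instNormalPCore _ _).conj_mem α hα _
  have := hb ⟨_, hm⟩
  change gx ((tor c)⁻¹ * α * (tor c)⁻¹⁻¹) b = b at this
  have := congrArg (gx (tor (q := q) c)) this
  rwa [← gx_mul, ← mul_assoc, ← mul_assoc, mul_inv_cancel, one_mul, inv_inv, gx_mul, gx_tor, hc] at this

theorem conj_mem_ker (a : UM E q) : MulAut.conj a ∈ (Phi (E := E) (q := q)).ker :=
  mem_ker_Phi.2 fun x => by
    change a.x + x + a.x = x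
    rw [add_right_comm, CharTwo.add_self_eq_zero, zero_add]

/-- An automorphism whose square acts trivially on `UM / Z` centralizes `Z`. -/
theorem fix_center_of_sq {n : ℕ} [Fact (Fintype.card E = (2 ^ n) ^ 2)] {α : MulAut (UM E (2 ^ n))}
    (h : α * α ∈ (Phi (E := E) (q := 2 ^ n)).ker) {a : UM E (2 ^ n)} (ha : a.x = 0) : α a = a := by
  obtain ⟨c, τ, hc⟩ := exists_semi α
  have h2 : ∀ x, (c : E) * (τ c * τ (τ x)) = x := fun x => by
    have := mem_ker_Phi.1 h x
    rwa [gx_mul, hc, hc, map_mul] at this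
  have h3 : (c : E) * τ c = 1 := by simpa using h2 1
  have h4 : ∀ x, τ (τ x) = x := fun x => by simpa [← mul_assoc, h3] using h2 x
  by_cases hτ : ∀ x, τ x = x
  · have : (c : E) = 1 := (frobeniusEquiv E 2).injective (by
      change (c : E) ^ 2 = 1 ^ 2
      rw [sq, one_pow, ← h3, hτ])
    exact fix_center (fun x => by rw [hc, this, hτ, one_mul]) ha
  have hb : ∀ x, τ x = x ^ 2 ^ n := by
    letI := ZMod.algebra E 2
    let σ : E ≃ₐ[ZMod 2] E := AlgEquiv.ofRingEquiv (f := τ) fun r =>
      DFunLike.congr_fun (RingHom.ext_zmod (τ.toRingHom.comp (algebraMap (ZMod 2) E)) _) r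
    let b : E ≃+* E := RingEquiv.ofBijective (Geom.frobq (Fact.out : Fintype.card E = (2 ^ n) ^ 2))
      (Finite.injective_iff_bijective.1 (RingHom.injective _))
    let β : E ≃ₐ[ZMod 2] E := AlgEquiv.ofRingEquiv (f := b) fun r =>
      DFunLike.congr_fun (RingHom.ext_zmod (b.toRingHom.comp (algebraMap (ZMod 2) E)) _) r
    have o1 : orderOf σ = 2 := orderOf_eq_prime (AlgEquiv.ext fun x => h4 x)
      fun e => hτ fun x => DFunLike.congr_fun e x
    have o2 : orderOf β = 2 := orderOf_eq_prime (AlgEquiv.ext fun x => pow_q_q (q := 2 ^ n) x)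
      fun e => by
        obtain ⟨w, hw⟩ := exists_pow_q_ne E (2 ^ n)
        exact hw (DFunLike.congr_fun e w)
    have : σ = β := by
      classical
      have := IsCyclic.card_orderOf_eq_totient (α := E ≃ₐ[ZMod 2] E) (d := 2)
        (o1.symm.dvd.trans orderOf_dvd_card)
      rw [Nat.totient_two, Finset.card_eq_one] at this
      obtain ⟨z, hz⟩ := this
      have m1 : σ ∈ ({z} : Finset _) := hz ▸ Finset.mem_filter.2 ⟨Finset.mem_univ _, o1⟩
      have m2 : β ∈ ({z} : Finset _) := hz ▸ Finset.mem_filter.2 ⟨Finset.mem_univ _, o2⟩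
      rw [Finset.mem_singleton.1 m1, Finset.mem_singleton.1 m2]
    exact fun x => DFunLike.congr_fun this x
  refine fix_center (fun x => ?_) ha
  rw [hc, mul_pow, pow_succ (c : E), ← hb, mul_comm (τ c), h3, one_mul, ← map_pow, hb, norm_fix]

end Cfsg.Agent.Low.U3A
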